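import Cfsg.Agent.FischerThm.Targets

/-!
# Disconnected commuting graphs: vocabulary and the parts of the proof

`Twin X` is what the other components leave on one component `X` of a class of 3-transpositions with
disconnected commuting graph: `K = ⟨X⟩`, `L = K'` simple, the centralisers of members act transitively on
another component, and a product `u` of two commuting members of another component is an involution of `L`
moving every member of `X` to a commuting one, with the centraliser order of a product of two commuting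
members of `X`.
-/

set_option autoImplicit false
open scoped MatrixGroups

universe u v

namespace CfsgLib.FischerDisc

open Cfsg CfsgLib.FischerTypes CfsgLib.FischerThm

variable {K : Type u} [Group K]

/-- The centraliser of one element in the derived group. -/
abbrev derCent (x : K) : Subgroup K := commutator K ⊓ Subgroup.centralizer ({x} : Set K)

/-- The conditions on one component. -/
structure Twin (X : Set K) : Prop where
  outer : ∀ x ∈ X, x ∉ commutator K
  conj : ∀ g : K, ∀ x ∈ X, g * x * g⁻¹ ∈ X
  card_eq : ∀ x ∈ X, Nat.card ↥(commutator K) = X.ncard * Nat.card ↥(derCent x)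
  dvd : ∀ x ∈ X, X.ncard ∣ Nat.card ↥(derCent x)
  shift : ∃ u ∈ commutator K, u ≠ 1 ∧ u * u = 1 ∧
    (∀ y ∈ X, u * y * u ≠ y ∧ Commute y (u * y * u)) ∧
      ∃ x ∈ X, ∃ x' ∈ X, x ≠ x' ∧ Commute x x' ∧
        Nat.card ↥(derCent u) = Nat.card ↥(derCent (x * x'))

theorem map_derCent {H : Type v} [Group H] (e : K ≃* H) (x : K) :
    (derCent x).map e.toMonoidHom = derCent (e x) := by
  ext h
  constructor
  · rintro ⟨k, ⟨hk, hc⟩, rfl⟩
    refine ⟨?_, Subgroup.mem_centralizer_singleton_iff.2 ?_⟩
    · have : e.toMonoidHom k ∈ (commutator K).map e.toMonoidHom := ⟨k, hk, rfl⟩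
      rw [commutator_def, Subgroup.map_commutator] at this
      exact Subgroup.commutator_mono le_top le_top this
    · have := congrArg e (Subgroup.mem_centralizer_singleton_iff.1 hc)
      simpa using this
  · rintro ⟨hk, hc⟩
    refine ⟨e.symm h, ⟨?_, Subgroup.mem_centralizer_singleton_iff.2 (e.injective ?_)⟩, by simp⟩
    · have : e.symm.toMonoidHom h ∈ (commutator H).map e.symm.toMonoidHom := ⟨h, hk, rfl⟩
      rw [commutator_def, Subgroup.map_commutator] at this
      exact Subgroup.commutator_mono le_top le_top this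
    · simpa using Subgroup.mem_centralizer_singleton_iff.1 hc

theorem card_derCent {H : Type v} [Group H] (e : K ≃* H) (x : K) :
    Nat.card ↥(derCent (e x)) = Nat.card ↥(derCent x) := by
  rw [← map_derCent e x]
  exact (Nat.card_congr ((derCent x).equivMapOfInjective e.toMonoidHom e.injective).toEquiv).symm

/-- `Twin` only depends on the pair up to isomorphism. -/
theorem Twin.of_dIso {H : Type v} [Group H] {X : Set K} {E : Set H} (h : DIso X E) (t : Twin X) :
    Twin E := by
  obtain ⟨e, rfl⟩ := h
  have hn : (e '' X).ncard = X.ncard := Set.ncard_image_of_injective X e.injective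
  have hc : Nat.card ↥(commutator H) = Nat.card ↥(commutator K) := by
    have : (commutator K).map e.toMonoidHom = commutator H := by
      rw [commutator_def, commutator_def, Subgroup.map_commutator,
        Subgroup.map_top_of_surjective _ e.surjective]
    rw [← this]
    exact (Nat.card_congr ((commutator K).equivMapOfInjective e.toMonoidHom e.injective).toEquiv).symm
  refine ⟨?_, ?_, ?_, ?_, ?_⟩
  · rintro _ ⟨x, hx, rfl⟩ hex
    refine t.outer x hx ?_
    have : e.symm.toMonoidHom (e x) ∈ (commutator H).map e.symm.toMonoidHom := ⟨e x, hex, rfl⟩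
    rw [commutator_def, Subgroup.map_commutator] at this
    simpa [commutator_def] using Subgroup.commutator_mono le_top le_top this
  · rintro g _ ⟨x, hx, rfl⟩
    exact ⟨e.symm g * x * (e.symm g)⁻¹, t.conj _ x hx, by simp⟩
  · rintro _ ⟨x, hx, rfl⟩
    rw [hn, hc, card_derCent, t.card_eq x hx]
  · rintro _ ⟨x, hx, rfl⟩
    rw [hn, card_derCent]
    exact t.dvd x hx
  · obtain ⟨u, hu, hu1, huu, hs, x, hx, x', hx', hne, hcm, hcard⟩ := t.shift
    refine ⟨e u, ?_, fun he => hu1 (e.injective (he.trans (map_one e).symm)), by rw [← map_mul, huu, map_one],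
      ?_, e x, ⟨x, hx, rfl⟩, e x', ⟨x', hx', rfl⟩, fun he => hne (e.injective he), hcm.map e, ?_⟩
    · have : e.toMonoidHom u ∈ (commutator K).map e.toMonoidHom := ⟨u, hu, rfl⟩
      rw [commutator_def, Subgroup.map_commutator] at this
      exact Subgroup.commutator_mono le_top le_top this
    · rintro _ ⟨y, hy, rfl⟩
      rw [← map_mul, ← map_mul]
      exact ⟨fun he => (hs y hy).1 (e.injective he), (hs y hy).2.map e⟩
    · rw [← map_mul, card_derCent, card_derCent, hcard]

/-! ### The systems admitting no twin -/

/-- No twin in symmetric type. -/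
def NotTwinSym : Prop := ∀ n, 5 ≤ n → ¬ Twin (symD n)

/-- No twin in symplectic type. -/
def NotTwinSp : Prop := ∀ m, 2 ≤ m → ¬ Twin (spD m)

/-- No twin in unitary type. -/
def NotTwinUni : Prop :=
  ∀ (F : Type) [Field F] [Fintype F], Fintype.card F = 4 → ∀ n, 4 ≤ n → ¬ Twin (uniD n F)

/-- No twin in orthogonal plus type, except in dimension eight. -/
def NotTwinOPlus : Prop := ∀ m, 3 ≤ m → m ≠ 4 → ¬ Twin (oPlusD m)

/-- No twin in orthogonal minus type. -/
def NotTwinOMinus : Prop := ∀ m, 2 ≤ m → ¬ Twin (oMinusD m)

/-- No twin in reflection type, except dimension eight of plus type. -/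
def NotTwinRefl : Prop :=
  ∀ n s, 5 ≤ n → (s = 1 ∨ s = -1) → ¬ (n = 8 ∧ s = 1) → ¬ Twin (reflD n s)

/-- No twin in type M(22). -/
def NotTwinM22 : Prop :=
  ∀ (K : Type u) [Group K] [Finite K] (X : Set K), IsThreeTranspositionClass X →
    Subgroup.center K = ⊥ → IsSimpleGroup (commutator K) → IsM22T X → ¬ Twin X

/-- No twin in type M(23). -/
def NotTwinM23 : Prop :=
  ∀ (K : Type u) [Group K] [Finite K] (X : Set K), IsThreeTranspositionClass X →
    Subgroup.center K = ⊥ → IsSimpleGroup (commutator K) → IsM23T X → ¬ Twin X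

/-- No twin in type M(24). -/
def NotTwinM24 : Prop :=
  ∀ (K : Type u) [Group K] [Finite K] (X : Set K), IsThreeTranspositionClass X →
    Subgroup.center K = ⊥ → IsSimpleGroup (commutator K) → IsM24T X → ¬ Twin X

/-- The derived group of the reflection model of dimension eight. -/
def IdentRefl : Prop :=
  Nonempty (commutator (ReflGroup 8 1) ≃* Cfsg.POmega (ZMod 3) (Cfsg.quadFormPlus 4 (ZMod 3)))

/-- The orders of the automorphism groups of the two simple groups with triality. -/
def AutBound : Prop :=
  Nat.card (MulAut ↥(Cfsg.Omega (ZMod 2) (Cfsg.quadFormPlus 4 (ZMod 2)))) =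
      6 * Nat.card ↥(Cfsg.Omega (ZMod 2) (Cfsg.quadFormPlus 4 (ZMod 2))) ∧
    Nat.card (MulAut (Cfsg.POmega (ZMod 3) (Cfsg.quadFormPlus 4 (ZMod 3)))) =
      24 * Nat.card (Cfsg.POmega (ZMod 3) (Cfsg.quadFormPlus 4 (ZMod 3)))

end CfsgLib.FischerDisc
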