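import Cfsg.Agent.FischerDisc.Defs
import Cfsg.Agent.FischerThm.Basic
import Cfsg.Agent.FischerThm.ConvSymSix
import Cfsg.Agent.S0269
import Cfsg.Agent.S0283
import Cfsg.Agent.Transpositions.TypeM22Structure
import Cfsg.Agent.Transpositions.TypeM23Structure
import Cfsg.Agent.Transpositions.TypeM24Parameters

/-!
# Disconnected commuting graphs: the systems with an immediate obstruction

A perfect group has no twin; an involution of the symmetric group fixes a transposition; in type M(24) the
number of members does not divide the order of a centraliser.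
-/

set_option autoImplicit false

universe u

namespace CfsgLib.FischerDisc

open Cfsg CfsgLib.FischerThm

variable {K : Type u} [Group K] {X : Set K}

theorem Twin.exists_pair (t : Twin X) : ∃ x ∈ X, (CfsgLib.FischerTypes.perp X x).Nonempty := by
  obtain ⟨u, -, -, -, -, x, hx, x', hx', hne, hc, -⟩ := t.shift
  exact ⟨x, hx, x', hx', fun h => hne h.symm, hc⟩

theorem not_twin_of_perfect (h : commutator K = ⊤) : ¬ Twin X := fun t => by
  obtain ⟨x, hx, -⟩ := t.exists_pair
  exact t.outer x hx (h ▸ Subgroup.mem_top x)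

theorem notTwinSym : NotTwinSym := by
  intro n _ t
  obtain ⟨u, -, hu1, huu, hs, -⟩ := t.shift
  obtain ⟨i, hi⟩ : ∃ i, u i ≠ i := by
    by_contra h
    push Not at h
    exact hu1 (Equiv.ext h)
  have hy : Equiv.swap i (u i) ∈ symD n := Equiv.Perm.swap_isSwap_iff.2 fun h => hi h.symm
  refine (hs _ hy).1 ?_
  have hui : u (u i) = i := by rw [← Equiv.Perm.mul_apply, huu, Equiv.Perm.one_apply]
  have hinv : u⁻¹ = u := inv_eq_of_mul_eq_one_right huu
  calc u * Equiv.swap i (u i) * u = u * Equiv.swap i (u i) * u⁻¹ := by rw [hinv]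
    _ = Equiv.swap (u i) (u (u i)) := by
        rw [Equiv.mul_swap_eq_swap_mul, mul_assoc, mul_inv_cancel, mul_one]
    _ = Equiv.swap i (u i) := by rw [hui, Equiv.swap_comm]

theorem notTwinSp : NotTwinSp := by
  intro m hm
  rcases eq_or_lt_of_le hm with rfl | h3
  · intro t
    exact notTwinSym 6 (by norm_num) (t.of_dIso convSymSix.symm)
  · exact not_twin_of_perfect (Cfsg.Agent.S0269.result m (Or.inl h3))

theorem notTwinUni : NotTwinUni := by
  intro F _ _ hF n hn t
  have hS : IsSimpleGroup (Cfsg.PSU n F 2) :=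
    Cfsg.Agent.S0283.result (by rw [hF]; norm_num) n (by omega) (by omega)
  obtain ⟨u, hu, hu1, -⟩ := t.shift
  refine not_twin_of_perfect ?_ t
  refine ((inferInstance : (commutator (Cfsg.PSU n F 2)).Normal).eq_bot_or_eq_top).resolve_left
    fun h => hu1 ?_
  rwa [h, Subgroup.mem_bot] at hu

theorem notTwinM22 : NotTwinM22.{u} := by
  intro K _ _ X hX hZ hs h22 t
  have hp := (facts_of_simple hX hZ hs t.exists_pair).1
  exact not_twin_of_perfect (Transpositions.TypeM22.commutator_eq_top
    (Transpositions.isThreeTranspositionGroup_of_class hX) hp h22.1) t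

theorem notTwinM23 : NotTwinM23.{u} := by
  intro K _ _ X hX hZ hs h23 t
  have hp := (facts_of_simple hX hZ hs t.exists_pair).1
  exact not_twin_of_perfect (Transpositions.TypeM23.commutator_eq_top
    (⟨Transpositions.isThreeTranspositionGroup_of_class hX, hp, h23.1⟩ :
      CfsgLib.FischerTypes.M23.Hyp K X)) t

theorem notTwinM24 : NotTwinM24.{u} := by
  intro K _ _ X hX hZ hs h24 t
  have hp := (facts_of_simple hX hZ hs t.exists_pair).1
  have H : CfsgLib.FischerTypes.M24.Hyp K X :=
    ⟨Transpositions.isThreeTranspositionGroup_of_class hX, hp, h24.1⟩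
  obtain ⟨x, hx, -⟩ := t.exists_pair
  have h := (t.dvd x hx).trans (Subgroup.card_dvd_of_le (show derCent x ≤ _ from inf_le_right))
  rw [Transpositions.TypeM24.ncard_D H, Transpositions.TypeM24.card_centralizer H hx] at h
  norm_num at h

end CfsgLib.FischerDisc
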