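import Cfsg.Agent.FischerDisc.Defs
import Cfsg.Agent.FischerThm.Orth.Counts
import Cfsg.Agent.S0287
import Cfsg.Agent.S0289

/-!
# Disconnected commuting graphs: no twin in orthogonal type over the field with two elements

The shifting involution fixes no non-singular vector, so its displacement space is totally singular of half
the dimension.  That is impossible in minus type; in plus type the half dimension is even and the centraliser
of such an involution is too small to match that of a product of two transvections.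
-/

set_option autoImplicit false
set_option linter.unusedSectionVars false

namespace CfsgLib.FischerDisc.Orth

open Module QuadraticMap CfsgLib.Dickson CfsgLib.FormTranspositions CfsgLib.FischerThm CfsgLib.FischerThm.Orth

/-- A subgroup is at most as large as the image of a map times a group containing the differences. -/
theorem card_le_mul_of_fibres {G α : Type*} [Group G] [Finite G] (A B : Subgroup G) (f : G → α) (T : Set α)
    (hT : T.Finite) (hf : ∀ a ∈ A, f a ∈ T) (h : ∀ a ∈ A, ∀ b ∈ A, f a = f b → a⁻¹ * b ∈ B) :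
    Nat.card A ≤ T.ncard * Nat.card B := by
  classical
  haveI := hT.to_subtype
  let rep : α → G := fun t => if ht : ∃ a ∈ A, f a = t then ht.choose else 1
  have hr : ∀ a : A, rep (f a) ∈ A ∧ f (rep (f a)) = f a := fun a => by
    have ht : ∃ b ∈ A, f b = f a := ⟨a, a.2, rfl⟩
    simp only [rep, dif_pos ht]
    exact ht.choose_spec
  let F : A → T × B := fun a =>
    (⟨f a, hf a a.2⟩, ⟨(rep (f a))⁻¹ * a, h _ (hr a).1 a a.2 (hr a).2⟩)
  have hF : Function.Injective F := fun a b e => by
    simp only [F, Prod.mk.injEq, Subtype.mk.injEq] at e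
    rw [e.1] at e
    exact Subtype.ext (mul_left_cancel e.2)
  have := Nat.card_le_card_of_injective F hF
  rwa [Nat.card_prod, Nat.card_coe_set_eq] at this

variable {V : Type*} [AddCommGroup V] [Module (ZMod 2) V] [FiniteDimensional (ZMod 2) V]
  {Q : QuadraticForm (ZMod 2) V}

/-- The derived group moves a pair to at most `|X|²` places, fixing the product in the stabiliser. -/
theorem card_commutator_le {K : Type*} [Group K] [Finite K] {X : Set K}
    (hX : ∀ g : K, ∀ x ∈ X, g * x * g⁻¹ ∈ X) {x x' : K} (hx : x ∈ X) (hx' : x' ∈ X) :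
    Nat.card ↥(commutator K) ≤ X.ncard * X.ncard * Nat.card ↥(derCent (x * x')) := by
  rw [← Set.ncard_prod]
  refine card_le_mul_of_fibres _ _ (fun g => (g * x * g⁻¹, g * x' * g⁻¹)) _ (Set.toFinite _)
    (fun a _ => ⟨hX a x hx, hX a x' hx'⟩) fun a ha b hb e => ?_
  simp only [Prod.mk.injEq] at e
  refine Subgroup.mem_inf.2 ⟨mul_mem (inv_mem ha) hb, Subgroup.mem_centralizer_singleton_iff.2 ?_⟩
  have h1 : a⁻¹ * b * x = x * (a⁻¹ * b) := by
    calc a⁻¹ * b * x = a⁻¹ * (b * x * b⁻¹) * b := by group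
      _ = a⁻¹ * (a * x * a⁻¹) * b := by rw [e.1]
      _ = x * (a⁻¹ * b) := by group
  have h2 : a⁻¹ * b * x' = x' * (a⁻¹ * b) := by
    calc a⁻¹ * b * x' = a⁻¹ * (b * x' * b⁻¹) * b := by group
      _ = a⁻¹ * (a * x' * a⁻¹) * b := by rw [e.2]
      _ = x' * (a⁻¹ * b) := by group
  calc a⁻¹ * b * (x * x') = x * (a⁻¹ * b) * x' := by rw [← mul_assoc, h1]
    _ = x * x' * (a⁻¹ * b) := by rw [mul_assoc, h2, ← mul_assoc]

/-- The shifting element of a twin has a totally singular displacement space of half the dimension. -/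
theorem lagrangian_of_twin (hQ : (polarBilin Q).Nondegenerate) {m : ℕ} (hm : finrank (ZMod 2) V = 2 * m)
    (t : Twin (rset Q)) :
    ∃ u ∈ commutator (orth Q), u * u = 1 ∧ finrank (ZMod 2) (LinearMap.range (disp u)) = m ∧
      (∀ v, Q (disp u v) = 0) ∧ ∃ x ∈ rset Q, ∃ x' ∈ rset Q,
        Nat.card ↥(derCent u) = Nat.card ↥(derCent (x * x')) := by
  obtain ⟨u, hu, -, huu, hs, x, hx, x', hx', -, -, hcard⟩ := t.shift
  refine ⟨u, hu, huu, ?_⟩
  suffices h : finrank (ZMod 2) (LinearMap.range (disp u)) = m ∧ ∀ v, Q (disp u v) = 0 from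
    ⟨h.1, h.2, x, hx, x', hx', hcard⟩
  by_contra hne
  obtain ⟨y, hy, hQy⟩ := exists_fixed_nonsingular hQ huu hm hne
  have hy1 : Q y = 1 := (zmod_two_cases _).resolve_left hQy
  refine (hs _ ((mem_rset hQ).2 ⟨y, hy1, rfl⟩)).1 ?_
  have huy : (u : V ≃ₗ[ZMod 2] V) y = y := (add_eq_zero_iff (F := ZMod 2)).1 (by rw [← disp_apply]; exact hy)
  have hinv : u⁻¹ = u := inv_eq_of_mul_eq_one_right huu
  calc u * refl y hy1 * u = u * refl y hy1 * u⁻¹ := by rw [hinv]
    _ = refl y hy1 := by rw [conj_refl]; exact refl_congr _ _ huy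

/-- The centraliser of an involution with totally singular displacement space of half the dimension. -/
theorem card_centralizer_le [Finite V] (hQ : (polarBilin Q).Nondegenerate) {m : ℕ}
    (hm : finrank (ZMod 2) V = 2 * m) {u : orth Q} (huu : u * u = 1)
    (hr : finrank (ZMod 2) (LinearMap.range (disp u)) = m) :
    Nat.card ↥(Subgroup.centralizer ({u} : Set (orth Q))) ≤ 2 ^ (m * (m + 1)) := by
  haveI : Finite (orth Q) :=
    Finite.of_injective (fun g : orth Q => ((g : V ≃ₗ[ZMod 2] V) : V → V))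
      fun g h e => Subtype.ext (LinearEquiv.ext (congrFun e))
  let R := LinearMap.range (disp u)
  let bR := Module.finBasisOfFinrankEq (ZMod 2) R hr
  choose e he using fun i => LinearMap.mem_range.1 (bR i).2
  let w : Fin m ⊕ Fin m → V := Sum.elim e fun i => (bR i : V)
  have hw : ∀ v : V, v ∈ Submodule.span (ZMod 2) (Set.range w) := by
    have hR : R ≤ Submodule.span (ZMod 2) (Set.range w) := by
      intro v hv
      have h1 : (⟨v, hv⟩ : R) ∈ Submodule.span (ZMod 2) (Set.range bR) := by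
        rw [bR.span_eq]; trivial
      have h2 := Submodule.mem_map_of_mem (f := R.subtype) h1
      rw [Submodule.map_span] at h2
      refine Submodule.span_mono ?_ h2
      rintro _ ⟨_, ⟨i, rfl⟩, rfl⟩
      exact ⟨.inr i, rfl⟩
    have hker : LinearMap.ker (disp u) = R := by
      refine (Submodule.eq_of_le_of_finrank_eq ?_ ?_).symm
      · rintro _ ⟨v, rfl⟩; exact disp_disp huu v
      · have := LinearMap.finrank_range_add_finrank_ker (disp u)
        change finrank (ZMod 2) R + _ = _ at this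
        change finrank (ZMod 2) R = _ at hr ⊢
        omega
    intro v
    have h1 : (⟨disp u v, LinearMap.mem_range_self _ v⟩ : R) = ∑ i, bR.repr _ i • bR i :=
      (bR.sum_repr _).symm
    set c := bR.repr ⟨disp u v, LinearMap.mem_range_self _ v⟩
    have h2 : v - ∑ i, c i • e i ∈ R := by
      rw [← hker, LinearMap.mem_ker, map_sub, map_sum]
      simp only [map_smul, he]
      have := congrArg Subtype.val h1
      simp only [AddSubmonoidClass.coe_finsetSum, SetLike.val_smul] at this
      rw [← this, sub_self]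
    have h3 : ∑ i, c i • e i ∈ Submodule.span (ZMod 2) (Set.range w) :=
      sum_mem fun i _ => Submodule.smul_mem _ _ (Submodule.subset_span ⟨.inl i, rfl⟩)
    simpa using add_mem (hR h2) h3
  have hcomm : ∀ g ∈ Subgroup.centralizer ({u} : Set (orth Q)), ∀ v,
      (g : V ≃ₗ[ZMod 2] V) (disp u v) = disp u ((g : V ≃ₗ[ZMod 2] V) v) := fun g hg v => by
    rw [disp_apply, disp_apply, map_add, ← mul_apply, ← mul_apply,
      Subgroup.mem_centralizer_singleton_iff.1 hg]
  let C : ℕ → Subgroup (orth Q) := fun k =>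
    { carrier := {g | g ∈ Subgroup.centralizer ({u} : Set (orth Q)) ∧
        ∀ j : Fin m, j.1 < k → (g : V ≃ₗ[ZMod 2] V) (e j) = e j}
      one_mem' := ⟨one_mem _, fun _ _ => rfl⟩
      mul_mem' := fun {a b} ha hb => ⟨mul_mem ha.1 hb.1, fun j hj => by rw [mul_apply, hb.2 j hj, ha.2 j hj]⟩
      inv_mem' := fun {a} ha => ⟨inv_mem ha.1, fun j hj => by
        conv_lhs => rw [← ha.2 j hj]
        rw [← mul_apply, inv_mul_cancel]; rfl⟩ }
  have htop : C m = ⊥ := (Subgroup.eq_bot_iff_forall _).2 fun g hg => by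
    refine Subtype.ext (LinearEquiv.ext fun v => ?_)
    have : Set.EqOn ((g : V ≃ₗ[ZMod 2] V) : V →ₗ[ZMod 2] V) (LinearMap.id : V →ₗ[ZMod 2] V) (Set.range w) := by
      rintro _ ⟨i | i, rfl⟩
      · exact hg.2 i i.2
      · show (g : V ≃ₗ[ZMod 2] V) (bR i : V) = bR i
        rw [← he i, hcomm g hg.1, hg.2 i i.2]
    exact LinearMap.eqOn_span this (hw v)
  have hstep : ∀ k, k < m → Nat.card (C k) ≤ 2 ^ (2 * (m - k)) * Nat.card (C (k + 1)) := by
    intro k hk
    let T : Set V := {x | ∀ j : Fin m, j.1 < k →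
      polar Q (e j) x = polar Q (e j) (e ⟨k, hk⟩) ∧ polar Q (bR j : V) x = polar Q (bR j : V) (e ⟨k, hk⟩)}
    have hT : T.ncard ≤ 2 ^ (2 * (m - k)) := by
      let I := {j : Fin m // k ≤ j.1}
      let φ : T → (I ⊕ I → ZMod 2) := fun x i => polar Q (w (Sum.map Subtype.val Subtype.val i)) x.1
      have hφ : Function.Injective φ := by
        intro x y hxy
        refine Subtype.ext (sub_eq_zero.1 (hQ.2 _ fun v => ?_))
        show polarBilin Q v (x.1 - y.1) = 0
        have : Set.EqOn ((polarBilin Q).flip (x.1 - y.1)) (0 : V →ₗ[ZMod 2] ZMod 2) (Set.range w) := by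
          rintro _ ⟨i, rfl⟩
          show polar Q (w i) (x.1 - y.1) = 0
          rw [QuadraticMap.polar_sub_right, sub_eq_zero]
          rcases i with i | i <;> by_cases hi : i.1 < k
          · exact (x.2 i hi).1.trans (y.2 i hi).1.symm
          · exact congrFun hxy (.inl ⟨i, not_lt.1 hi⟩)
          · exact (x.2 i hi).2.trans (y.2 i hi).2.symm
          · exact congrFun hxy (.inr ⟨i, not_lt.1 hi⟩)
        exact LinearMap.eqOn_span this (hw v)
      refine (Nat.card_coe_set_eq T ▸ Nat.card_le_card_of_injective φ hφ).trans (le_of_eq ?_)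
      rw [Nat.card_fun, Nat.card_sum, Nat.card_zmod]
      have : Nat.card I = m - k := by
        let E : I ≃ Fin (m - k) :=
          { toFun := fun j => ⟨j.1.1 - k, by have := j.1.2; have := j.2; omega⟩
            invFun := fun i => ⟨⟨i.1 + k, by omega⟩, by simp⟩
            left_inv := fun j => by have := j.2; ext; simp; omega
            right_inv := fun i => by ext; simp }
        rw [Nat.card_congr E, Nat.card_fin]
      rw [this, two_mul]
    refine le_trans ?_ (Nat.mul_le_mul_right _ hT)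
    refine card_le_mul_of_fibres (C k) (C (k + 1)) (fun g : orth Q => (g : V ≃ₗ[ZMod 2] V) (e ⟨k, hk⟩)) T
      (Set.toFinite _) (fun (g : orth Q) hg j hj => ⟨?_, ?_⟩) fun (a : orth Q) ha (b : orth Q) hb hab =>
        ⟨mul_mem (inv_mem ha.1) hb.1, fun j hj => ?_⟩
    · conv_lhs => rw [← hg.2 j hj]
      exact polar_map g _ _
    · have hgb : (g : V ≃ₗ[ZMod 2] V) (bR j : V) = bR j := by rw [← he j, hcomm g hg.1, hg.2 j hj]
      conv_lhs => rw [← hgb]
      exact polar_map g _ _
    · rcases Nat.lt_succ_iff_lt_or_eq.1 hj with h | h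
      · exact (mul_mem (inv_mem ha) hb).2 j h
      · obtain rfl : j = ⟨k, hk⟩ := Fin.ext h
        rw [mul_apply, ← hab, ← mul_apply, inv_mul_cancel]; rfl
  have hchain : ∀ d k, k + d = m → Nat.card (C k) ≤ 2 ^ (d * (d + 1)) := by
    intro d
    induction d with
    | zero => intro k hk; rw [add_zero] at hk; rw [hk, htop]; simp
    | succ d ih =>
      intro k hk
      refine (hstep k (by omega)).trans ((Nat.mul_le_mul_left _ (ih (k + 1) (by omega))).trans (le_of_eq ?_))
      rw [← pow_add, show m - k = d + 1 by omega]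
      congr 1
      ring
  refine le_trans ?_ (hchain m 0 (zero_add m))
  exact Subgroup.card_le_of_le fun g hg => ⟨hg, fun j hj => absurd hj (Nat.not_lt_zero _)⟩

theorem prod_ge (k : ℕ) : 2 ^ (k * k) ≤ ∏ i ∈ Finset.range k, (2 ^ (2 * (i + 1)) - 1) := by
  induction k with
  | zero => simp
  | succ k ih =>
    rw [Finset.prod_range_succ]
    calc 2 ^ ((k + 1) * (k + 1)) = 2 ^ (k * k) * 2 ^ (2 * k + 1) := by rw [← pow_add]; ring_nf
      _ ≤ _ := Nat.mul_le_mul ih (by
          have h : 2 ^ (2 * (k + 1)) = 2 * 2 ^ (2 * k + 1) := by rw [← pow_succ']; ring_nf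
          have h1 : 1 ≤ 2 ^ (2 * k + 1) := Nat.one_le_two_pow
          omega)

theorem order_lt {m : ℕ} (hm : 6 ≤ m) (he : Even m) :
    2 * (2 ^ (2 * m - 1) * 2 ^ (2 * m - 1) * 2 ^ (m * (m + 1))) <
      2 * 2 ^ (m * (m - 1)) * (2 ^ m - 1) * ∏ i ∈ Finset.range (m - 1), (2 ^ (2 * (i + 1)) - 1) := by
  rcases Nat.lt_or_ge m 8 with h | h
  · obtain rfl : m = 6 := by rcases he with ⟨r, rfl⟩; omega
    norm_num [Finset.prod_range_succ]
  · obtain ⟨k, rfl⟩ : ∃ k, m = k + 1 := ⟨m - 1, by omega⟩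
    simp only [Nat.add_sub_cancel]
    have h1 : 2 ^ k ≤ 2 ^ (k + 1) - 1 := by
      have : 1 ≤ 2 ^ k := Nat.one_le_two_pow
      rw [pow_succ]; omega
    refine lt_of_lt_of_le ?_ (Nat.mul_le_mul (Nat.mul_le_mul_left _ h1) (prod_ge k))
    rw [mul_assoc 2, mul_assoc 2, ← pow_add, ← pow_add, ← pow_add, ← pow_add]
    refine Nat.mul_lt_mul_of_pos_left (Nat.pow_lt_pow_right one_lt_two ?_) two_pos
    have : 7 * k ≤ k * k := Nat.mul_le_mul_right k (by omega)
    have e1 : (k + 1) * (k + 1 + 1) = k * k + 3 * k + 2 := by ring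
    have e2 : (k + 1) * k = k * k + k := by ring
    omega

end CfsgLib.FischerDisc.Orth

namespace CfsgLib.FischerDisc

open Module QuadraticMap CfsgLib.Dickson CfsgLib.FormTranspositions CfsgLib.FischerThm CfsgLib.FischerThm.Orth

theorem notTwinOMinus : NotTwinOMinus := by
  intro m _ t
  have hcd : ∀ z₁ z₂ : ZMod 2, z₁ ^ 2 + 1 * z₁ * z₂ + 1 * z₂ ^ 2 = 0 → z₁ = 0 ∧ z₂ = 0 := by decide
  have hd : DIso (oMinusD m) (rset (minusForm m (ZMod 2) 1 1)) := dIso_mset _ _ (minusForm_coe m 1 1)
  have hfin : finrank (ZMod 2) ((Fin m ⊕ Fin m) ⊕ Fin 2 → ZMod 2) = 2 * (m + 1) := by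
    rw [Module.finrank_fintype_fun_eq_card]; simp; ring
  obtain ⟨u, -, -, hr, hs, -⟩ := Orth.lagrangian_of_twin (minusForm_nondegenerate m hcd) hfin (t.of_dIso hd)
  have := minus_no_lag m hcd (LinearMap.range (disp u)) (by rintro _ ⟨v, rfl⟩; exact hs v)
  omega

theorem notTwinOPlus : NotTwinOPlus := by
  intro m hm hm4 t
  have hQ : (polarBilin (plusForm m (ZMod 2))).Nondegenerate := plusForm_nondegenerate m
  have hd : DIso (oPlusD m) (rset (plusForm m (ZMod 2))) := dIso_mset _ _ (plusForm_coe m)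
  have hfin : finrank (ZMod 2) (Fin m ⊕ Fin m → ZMod 2) = 2 * m := by
    rw [Module.finrank_fintype_fun_eq_card]; simp; ring
  have h5 : 5 ≤ finrank (ZMod 2) (Fin m ⊕ Fin m → ZMod 2) := by omega
  have t' := t.of_dIso hd
  obtain ⟨u, hu, huu, hr, -, x, hx, x', hx', hcard⟩ := Orth.lagrangian_of_twin hQ hfin t'
  have heven : Even m := by
    have := (mem_commutator_iff hQ h5 u).1 hu
    rw [parity, hr] at this
    exact ZMod.natCast_eq_zero_iff_even.1 this
  haveI : Finite (orth (plusForm m (ZMod 2))) :=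
    Finite.of_injective (fun g : orth (plusForm m (ZMod 2)) =>
      ((g : (Fin m ⊕ Fin m → ZMod 2) ≃ₗ[ZMod 2] _) : (Fin m ⊕ Fin m → ZMod 2) → (Fin m ⊕ Fin m → ZMod 2)))
      fun g h e => Subtype.ext (LinearEquiv.ext (congrFun e))
  have h1 : Nat.card (orth (plusForm m (ZMod 2))) ≤ 2 * Nat.card ↥(commutator (orth (plusForm m (ZMod 2)))) := by
    have := Orth.card_le_mul_of_fibres ⊤ (commutator (orth (plusForm m (ZMod 2)))) parity Set.univ
      (Set.toFinite _) (fun _ _ => trivial) fun a _ b _ e => (mem_commutator_iff hQ h5 _).2 (by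
        have hmul := parity_mul hQ h5 a (a⁻¹ * b)
        rw [mul_inv_cancel_left, ← e] at hmul
        exact left_eq_add.1 hmul)
    rwa [Subgroup.card_top, Set.ncard_univ, Nat.card_zmod] at this
  have hv : (rset (plusForm m (ZMod 2))).ncard ≤ 2 ^ (2 * m - 1) := by
    rw [ncard_rset hQ]
    have htot := Set.ncard_add_ncard_compl {v | plusForm m (ZMod 2) v = 1}
    have hcompl : {v | plusForm m (ZMod 2) v = 1}ᶜ = {v | plusForm m (ZMod 2) v = 0} := by
      ext v; rcases zmod_two_cases (plusForm m (ZMod 2) v) with h | h <;> simp [h]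
    have hz := Cfsg.Agent.S0289.result (ZMod.card 2) m (by omega)
    rw [← plusForm_coe] at hz
    have hz' : {v | plusForm m (ZMod 2) v = 0}.ncard = 2 ^ (2 * m - 1) + 2 ^ m - 2 ^ (m - 1) := by
      rw [← Nat.card_coe_set_eq, ← hz]; rfl
    rw [hcompl, hz', Nat.card_fun, Nat.card_sum, Nat.card_fin, Nat.card_zmod] at htot
    have h2 : 2 ^ (m + m) = 2 * 2 ^ (2 * m - 1) := by rw [← pow_succ']; congr 1; omega
    have h3 : 2 ^ (m - 1) ≤ 2 ^ m := Nat.pow_le_pow_right two_pos (by omega)
    omega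
  have h2 := Orth.card_commutator_le t'.conj hx hx'
  rw [← hcard] at h2
  have h3 : Nat.card ↥(derCent u) ≤ 2 ^ (m * (m + 1)) :=
    (Subgroup.card_le_of_le inf_le_right).trans (Orth.card_centralizer_le hQ hfin huu hr)
  have h4 : Nat.card (orth (plusForm m (ZMod 2))) =
      2 * 2 ^ (m * (m - 1)) * (2 ^ m - 1) * ∏ i ∈ Finset.range (m - 1), (2 ^ (2 * (i + 1)) - 1) := by
    rw [← Nat.card_congr (toOrth (plusForm m (ZMod 2))).toEquiv, plusForm_coe]
    exact Cfsg.Agent.S0287.result (ZMod.card 2) m (by omega)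
  have h5' : 2 * (2 ^ (2 * m - 1) * 2 ^ (2 * m - 1) * 2 ^ (m * (m + 1))) <
      Nat.card (orth (plusForm m (ZMod 2))) := by
    rw [h4]; exact Orth.order_lt (by rcases heven with ⟨r, rfl⟩; omega) heven
  have h6 : Nat.card ↥(commutator (orth (plusForm m (ZMod 2)))) ≤
      2 ^ (2 * m - 1) * 2 ^ (2 * m - 1) * 2 ^ (m * (m + 1)) :=
    h2.trans (Nat.mul_le_mul (Nat.mul_le_mul hv hv) h3)
  omega

end CfsgLib.FischerDisc
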