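import Cfsg.Agent.FischerDisc.Defs
import Cfsg.Agent.FischerDisc.Refl.Embed
import Cfsg.Agent.FischerDisc.Refl.Fixed

/-!
# No twin in reflection type

A twin element lifts to an isometry of square `-1` of a space of dimension `2k` and plus square class. For odd
`k` an element of primitive order for `2k` would fix a vector; for even `k` other than four an element of
primitive order for `2k - 4` centralising two orthogonal reflections would commute with the square root of `-1`.
-/

set_option autoImplicit false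
set_option linter.style.haveILetI false

namespace CfsgLib.FischerDisc.Refl

open Cfsg Matrix Module CfsgLib.Spinor CfsgLib.Transpositions

theorem dvd_sub_one_of_dvd {r k : ℕ} (h : r ∣ 3 ^ k + 1) : r ∣ 3 ^ (2 * k) - 1 := by
  have hfac : 3 ^ (2 * k) - 1 = (3 ^ k + 1) * (3 ^ k - 1) := by
    rw [two_mul, pow_add, ← Nat.sq_sub_sq, _root_.sq, one_pow]
  rw [hfac]
  exact dvd_mul_of_dvd_left h _

theorem ne_two_of_primitive {r d : ℕ} (hd : 1 < d) (hp : ∀ i, 0 < i → i < d → ¬ r ∣ 3 ^ i - 1) : r ≠ 2 := by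
  rintro rfl
  exact hp 1 one_pos hd (by norm_num)

/-- An isometry of square one moving every vector of norm one to an orthogonal one does not exist. -/
theorem false_of_involution {n : ℕ} (hn : 5 ≤ n) {Q : QuadraticForm (ZMod 3) (Fin n → ZMod 3)}
    (hQ : (QuadraticMap.polarBilin Q).Nondegenerate) {g : ↥(isometryGroup (ZMod 3) ⇑Q)}
    (hg : mat Q g * mat Q g = 1) (horth : ∀ v, Q v = 1 → QuadraticMap.polar (⇑Q) v (mat Q g *ᵥ v) = 0) :
    False := by
  have h2 : (2 : ZMod 3) ≠ 0 := by decide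
  have hgg : ∀ x, mat Q g *ᵥ (mat Q g *ᵥ x) = x := fun x => by rw [mulVec_mulVec, hg, one_mulVec]
  let W : ZMod 3 → Submodule (ZMod 3) (Fin n → ZMod 3) := fun ε =>
    LinearMap.ker ((mat Q g).toLin' - ε • LinearMap.id)
  have hW : ∀ ε x, x ∈ W ε ↔ mat Q g *ᵥ x = ε • x := fun ε x => by simp [W, sub_eq_zero]
  have hsmall : ∀ ε : ZMod 3, ε * ε = 1 → finrank (ZMod 3) (W ε) ≤ 1 := by
    intro ε hε
    by_contra hc
    have hsep : ∀ x : W ε, (∀ y : W ε, QuadraticMap.polar (⇑(Q.comp (W ε).subtype)) x y = 0) → x = 0 := by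
      intro x hx
      refine Subtype.ext (hQ.1 x.1 fun y => ?_)
      rw [QuadraticMap.polarBilin_apply_apply]
      have hmem : y + ε • mat Q g *ᵥ y ∈ W ε := by
        rw [hW, mulVec_add, mulVec_smul, hgg, smul_add, smul_smul, hε, one_smul, add_comm]
      have h0 : QuadraticMap.polar (⇑Q) x.1 (y + ε • mat Q g *ᵥ y) = 0 := by
        have := hx ⟨_, hmem⟩
        simpa [QuadraticMap.polar] using this
      have hxg := polar_mulVec Q g x.1 y
      rw [(hW ε x.1).1 x.2, QuadraticMap.polar_smul_left, smul_eq_mul] at hxg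
      rw [QuadraticMap.polar_add_right, QuadraticMap.polar_smul_right, smul_eq_mul, hxg, ← two_mul] at h0
      exact (mul_eq_zero.1 h0).resolve_left h2
    obtain ⟨v, hv⟩ := Forms.exists_quad_value h2 (Q.comp (W ε).subtype) hsep (by omega) 1
    have h := horth v.1 hv
    rw [(hW ε v.1).1 v.2, QuadraticMap.polar_smul_right, polar_self', show Q v.1 = 1 from hv, smul_eq_mul,
      mul_one] at h
    exact mul_ne_zero (fun he => by rw [he, zero_mul] at hε; exact zero_ne_one hε) h2 h
  let P : (Fin n → ZMod 3) →ₗ[ZMod 3] (Fin n → ZMod 3) := LinearMap.id + (mat Q g).toLin'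
  have hker : LinearMap.ker P ≤ W (-1) := fun x hx => by
    rw [hW, neg_one_smul]
    simp [P] at hx
    exact eq_neg_of_add_eq_zero_right hx
  have hrange : LinearMap.range P ≤ W 1 := by
    rintro _ ⟨x, rfl⟩
    rw [hW, one_smul]
    simp [P, mulVec_add, hgg, add_comm]
  have h := P.finrank_range_add_finrank_ker
  rw [Module.finrank_pi, Fintype.card_fin] at h
  have := Submodule.finrank_mono hker
  have := Submodule.finrank_mono hrange
  have := hsmall 1 (by norm_num)
  have := hsmall (-1) (by norm_num)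
  omega

end CfsgLib.FischerDisc.Refl

namespace CfsgLib.FischerDisc

open Cfsg Matrix Module CfsgLib.Spinor CfsgLib.Transpositions CfsgLib.FischerThm Refl

/-- No twin in reflection type, except dimension eight of plus type. -/
theorem notTwinRefl : NotTwinRefl := by
  intro n s hn hs hex t
  have hQ := Refl.stdQ_nondegenerate n (s := s) (by rcases hs with rfl | rfl <;> decide)
  set Q := stdQ n s with hQdef
  have hι : 5 ≤ Fintype.card (Fin n) := by simpa using hn
  have hx : ∀ v (hv : Q v = 1), proj Q (classRefl one_ne_zero v hv) ∈ reflD n s := fun v hv =>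
    ⟨_, classRefl_mem one_ne_zero v hv, rfl⟩
  have hD : ∀ y ∈ reflD n s, ∃ v hv, proj Q (classRefl one_ne_zero v hv) = y := by
    rintro _ ⟨g, hg, rfl⟩
    obtain ⟨v, hv, rfl⟩ := exists_eq_classRefl one_ne_zero hg
    exact ⟨v, hv, rfl⟩
  obtain ⟨u, hu, hu1, huu, hshift, x, hxm, x', hxm', hne, hcm, hcard⟩ := t.shift
  obtain ⟨u0, rfl⟩ := QuotientGroup.mk'_surjective _ u
  have horth : ∀ v, Q v = 1 → QuadraticMap.polar (⇑Q) v (mat Q u0.1 *ᵥ v) = 0 := by
    intro v hv
    obtain ⟨hne', hc'⟩ := hshift _ (hx v hv)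
    have hinv : (proj Q u0)⁻¹ = proj Q u0 := inv_eq_of_mul_eq_one_right huu
    have he : proj Q u0 * proj Q (classRefl one_ne_zero v hv) * proj Q u0 =
        proj Q (classRefl one_ne_zero (mat Q u0.1 *ᵥ v) ((quad_mulVec Q u0.1 v).trans hv)) := by
      rw [← classRefl_conj u0 hv, map_mul, map_mul, map_inv, hinv]
    erw [he] at hne' hc'
    exact orth_of_commute hQ hι hv _ (Ne.symm hne') hc'
  have hsq : mat Q u0.1 * mat Q u0.1 = 1 ∨ mat Q u0.1 * mat Q u0.1 = -1 :=
    mat_of_mem_center hQ hι (z := u0 * u0) (proj_eq_one.1 ((map_mul _ _ _).trans huu))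
  rcases hsq with hsq | hsq
  · exact false_of_involution hn hQ hsq horth
  obtain ⟨k, hk, hZ⟩ := card_zero_of_sqrt n (Fin n → ZMod 3) Q (by rw [Module.finrank_pi, Fintype.card_fin])
    (fun x hx => hQ.1 x fun y => hx y) (mat Q u0.1).toLin'
    (fun x => by rw [toLin'_apply, toLin'_apply, mulVec_mulVec, hsq, neg_mulVec, one_mulVec])
    (fun x => quad_mulVec Q u0.1 x)
  subst hk
  have hs1 : s = 1 := by
    rcases hs with h | h
    · exact h
    exfalso
    subst h
    rw [hQdef, card_zero_stdQ_neg k (by omega)] at hZ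
    have h0 : ((-3 : ℤ)) ^ k = 0 := by linarith
    exact pow_ne_zero k (by norm_num) h0
  subst hs1
  have hk4 : k ≠ 4 := fun h => hex ⟨by omega, rfl⟩
  rcases Nat.even_or_odd k with hke | hko
  · -- even: an element centralising two orthogonal reflections
    obtain ⟨j, rfl⟩ : ∃ j, k = j + 2 := ⟨k - 2, by omega⟩
    have hje : Even j := by simpa [Nat.even_add] using hke
    have hj : 4 ≤ j := by obtain ⟨c, rfl⟩ := hje; omega
    obtain ⟨r, hr, hd, hp⟩ := exists_primitive j (by omega)
    have hr2 := ne_two_of_primitive (by omega) hp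
    obtain ⟨v, hv, rfl⟩ := hD x hxm
    obtain ⟨v', hv', rfl⟩ := hD x' hxm'
    have ho := orth_of_commute hQ hι hv hv' hne hcm
    obtain ⟨g, hg, hgv, hgv'⟩ := exists_order_fix j (by omega) hje hr hd hv hv' ho
    obtain ⟨k0, hk0, hk0c, hk0o⟩ := exists_proj_of_isometry hQ hι hr hr2 hg
    subst hk0
    have hc : Commute (proj Q k0) (proj Q (classRefl one_ne_zero v hv) * proj Q (classRefl one_ne_zero v' hv')) := by
      rw [← map_mul]
      exact Commute.map (Commute.mul_right ((commute_classRefl k0 hv).2 (Or.inl hgv))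
        ((commute_classRefl k0 hv').2 (Or.inl hgv'))) _
    haveI : Fact r.Prime := ⟨hr⟩
    have hdvd : r ∣ Nat.card ↥(derCent (QuotientGroup.mk' _ u0 : ReflGroup (2 * (j + 2)) 1)) := by
      rw [hcard, ← hk0o]
      exact Subgroup.orderOf_dvd_natCard _ ⟨hk0c, Subgroup.mem_centralizer_singleton_iff.2 hc.eq⟩
    obtain ⟨⟨y, hy⟩, hyo⟩ := exists_prime_orderOf_dvd_card' r hdvd
    rw [← Subgroup.orderOf_coe] at hyo
    obtain ⟨k1, hk1, hk1r, hk1o⟩ := exists_lift hQ hι hr hr2 hyo
    subst hk1
    have hcu : Commute k1 u0 :=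
      commute_of_proj hQ hι (hr.odd_of_ne_two hr2) hk1r (Subgroup.mem_centralizer_singleton_iff.1 hy.2)
    exact not_commute_sqrt (k := j + 2) hr (by omega) hje (Fintype.card_fin _) (by omega) (dvd_sub_one_of_dvd hd) hp hQ hk1o hsq
      (congrArg Subtype.val hcu.eq)
  · -- odd: an element centralising a reflection
    obtain ⟨r, hr, hd, hp⟩ := exists_primitive k (by omega)
    have hr2 := ne_two_of_primitive (by omega) hp
    haveI : Fact r.Prime := ⟨hr⟩
    obtain ⟨i, rfl⟩ : ∃ i, k = i + 1 := ⟨k - 1, by omega⟩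
    have hie : Even i := by simpa [Nat.odd_add_one] using hko
    obtain ⟨g, hg⟩ := exists_order_minus i 1 hie.neg_one_pow.symm hr hd
    obtain ⟨k0, hk0, hk0c, hk0o⟩ := exists_proj_of_isometry hQ hι hr hr2 hg
    obtain ⟨v, hv⟩ := Forms.exists_value (by decide : (2 : ZMod 3) ≠ 0) hQ (by omega) 1
    have hdc : r ∣ Nat.card ↥(derCent (proj Q (classRefl one_ne_zero v hv) : ReflGroup (2 * (i + 1)) 1)) := by
      have h : r ∣ Nat.card ↥(commutator (ReflGroup (2 * (i + 1)) 1)) := by
        rw [← hk0o]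
        exact Subgroup.orderOf_dvd_natCard _ hk0c
      rw [t.card_eq _ (hx v hv)] at h
      exact (hr.dvd_mul.1 h).elim (fun h' => h'.trans (t.dvd _ (hx v hv))) id
    obtain ⟨⟨y, hy⟩, hyo⟩ := exists_prime_orderOf_dvd_card' r hdc
    rw [← Subgroup.orderOf_coe] at hyo
    obtain ⟨k1, hk1, hk1r, hk1o⟩ := exists_lift hQ hι hr hr2 hyo
    subst hk1
    refine no_fixed hr (by omega) (by simp : Fintype.card (Fin (2 * (i + 1))) = 2 * (i + 1))
      (dvd_sub_one_of_dvd hd) hp hk1o (fun h : v = 0 => ?_)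
      (fix_of_commute hQ hι (hr.odd_of_ne_two hr2) hk1r hv (Subgroup.mem_centralizer_singleton_iff.1 hy.2))
    rw [h, QuadraticMap.map_zero] at hv
    exact zero_ne_one hv

end CfsgLib.FischerDisc
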