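import Cfsg.Agent.FischerDisc.Defs
import Cfsg.Agent.FischerDisc.Refl.Basic
import Cfsg.Agent.FischerDisc.Refl.Order
import Cfsg.Agent.AutPOmega.Congr
import Cfsg.Agent.Spinor.StdForms

/-!
# The derived group of the reflection model of dimension eight

The derived group of the reflection group has index four in the isometry group, so it is `Ω`; an element central
in it fixes every line of a norm-one vector, so the two centres agree, and the form is of plus type.
-/

set_option autoImplicit false
set_option linter.style.haveILetI false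

namespace CfsgLib.FischerDisc.Refl

open Cfsg Matrix Module CfsgLib.Spinor CfsgLib.Transpositions
open scoped commutatorElement

variable {ι : Type} [Fintype ι] [DecidableEq ι] {Q : QuadraticForm (ZMod 3) (ι → ZMod 3)}

/-- The derived group of the reflection group is `Ω`. -/
theorem map_commutator_eq_omega (hQ : (QuadraticMap.polarBilin Q).Nondegenerate)
    (hn : 5 ≤ Fintype.card ι) :
    (commutator ↥(reflectionSubgroup (⇑Q) 1)).map (reflectionSubgroup (⇑Q) 1).subtype =
      Cfsg.Omega (ZMod 3) ⇑Q := by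
  have hle : (commutator ↥(reflectionSubgroup (⇑Q) 1)).map (reflectionSubgroup (⇑Q) 1).subtype ≤
      Cfsg.Omega (ZMod 3) ⇑Q := by
    unfold Cfsg.Omega
    rw [commutator_def, commutator_def, Subgroup.map_commutator]
    exact Subgroup.commutator_mono le_top le_top
  refine le_antisymm hle (Subgroup.relIndex_eq_one.1 ?_)
  have h1 := Subgroup.relIndex_mul_index hle
  rw [Forms.index_omega_odd (by decide : (2 : ZMod 3) ≠ 0) hQ (by omega), Subgroup.index_map_subtype,
    index_reflectionSubgroup hQ hn] at h1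
  have h2 := (reflClass_structure hQ hn (one_ne_zero (α := ZMod 3))).2.1
  have h3 := Subgroup.index_ne_zero_of_finite (H := commutator ↥(reflectionSubgroup (⇑Q) 1))
  omega

theorem mul_mem_commutator (hQ : (QuadraticMap.polarBilin Q).Nondegenerate) (hn : 5 ≤ Fintype.card ι)
    {v w : ι → ZMod 3} (hv : Q v = 1) (hw : Q w = 1) :
    classRefl one_ne_zero v hv * classRefl one_ne_zero w hw ∈ commutator ↥(reflectionSubgroup (⇑Q) 1) := by
  obtain ⟨a, -, hD⟩ := (reflClass_isThreeTranspositionClass hQ hn (one_ne_zero (α := ZMod 3))).2.1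
  have h1 := classRefl_mem (one_ne_zero (α := ZMod 3)) v hv
  have h2 := classRefl_mem (one_ne_zero (α := ZMod 3)) w hw
  rw [hD] at h1 h2
  obtain ⟨k, hk⟩ := isConj_iff.1 (IsConj.trans (IsConj.symm h1) h2)
  have he : ⁅classRefl one_ne_zero v hv, k⁆ = classRefl one_ne_zero v hv * classRefl one_ne_zero w hw := by
    rw [commutatorElement_def, inv_eq_of_mul_eq_one_right (mul_self_classRefl hv), ← hk]
    group
  rw [← he, commutator_def]
  exact Subgroup.commutator_mem_commutator (Subgroup.mem_top _) (Subgroup.mem_top _)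

/-- The centre of the derived group. -/
theorem center_commutator (hQ : (QuadraticMap.polarBilin Q).Nondegenerate) (hn : 5 ≤ Fintype.card ι) :
    Subgroup.center ↥(commutator ↥(reflectionSubgroup (⇑Q) 1)) =
      (Subgroup.center ↥(reflectionSubgroup (⇑Q) 1)).subgroupOf _ := by
  refine le_antisymm (fun z hz => ?_) fun z hz => Subgroup.mem_center_iff.2 fun a =>
    Subtype.ext (Subgroup.mem_center_iff.1 (Subgroup.mem_subgroupOf.1 hz) a.1)
  have hM : mat Q z.1.1 = 1 ∨ mat Q z.1.1 = -1 := by
    refine scalar_of_pm hQ hn _ fun v hv => ?_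
    have hkey : ∀ w, Q w = 1 → QuadraticMap.polar (⇑Q) v w = 0 →
        ∃ α β : ZMod 3, mat Q z.1.1 *ᵥ v = α • v + β • w := by
      intro w hw ho
      have hwv : QuadraticMap.polar (⇑Q) w v = 0 := by rw [QuadraticMap.polar_comm, ho]
      have hc := congrArg (fun a : ↥(commutator ↥(reflectionSubgroup (⇑Q) 1)) => mat Q a.1.1 *ᵥ v)
        (Subgroup.mem_center_iff.1 hz ⟨_, mul_mem_commutator hQ hn hv hw⟩)
      simp only [classRefl, Subgroup.coe_mul, mat_mul, ← mulVec_mulVec, mat_reflIso,
        reflectionMatrix_mulVec, refl_apply, hv, hw, hwv, ho, polar_self', inv_one, one_mul, mul_one,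
        zero_smul, sub_zero, mulVec_sub, mulVec_smul, QuadraticMap.polar_sub_right,
        QuadraticMap.polar_smul_right, smul_eq_mul, mul_zero] at hc
      obtain ⟨p, q, hpq⟩ : ∃ p q : ZMod 3, (2 : ZMod 3) • mat Q z.1.1 *ᵥ v = p • v + q • w :=
        ⟨QuadraticMap.polar (⇑Q) v (mat Q z.1.1 *ᵥ v), QuadraticMap.polar (⇑Q) w (mat Q z.1.1 *ᵥ v), by
          linear_combination (norm := module) hc⟩
      exact ⟨2 * p, 2 * q, by
        have h := congrArg ((2 : ZMod 3) • ·) hpq
        simp only [smul_add, smul_smul, show (2 : ZMod 3) * 2 = 1 by decide, one_smul] at h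
        exact h⟩
    obtain ⟨w, hw, ho⟩ := exists_orth_one hQ hn one_ne_zero hv
    obtain ⟨w', hw', -, ho1, ho2⟩ := exists_orth_norm hQ hn one_ne_zero 1 hv hw ho
    obtain ⟨α, β, h⟩ := hkey w hw ho
    obtain ⟨α', β', h'⟩ := hkey w' hw' ho1
    have hβ : β = 0 := by
      have e := congrArg (QuadraticMap.polar (⇑Q) w) (h.symm.trans h')
      simp only [QuadraticMap.polar_add_right, QuadraticMap.polar_smul_right, polar_self', hw, ho2,
        show QuadraticMap.polar (⇑Q) w v = 0 by rw [QuadraticMap.polar_comm, ho], smul_eq_mul, mul_zero,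
        add_zero, zero_add, mul_one] at e
      exact (mul_eq_zero.1 e).resolve_right (by decide)
    rw [hβ, zero_smul, add_zero] at h
    have hα := quad_mulVec Q z.1.1 v
    rw [h, QuadraticMap.map_smul, hv, smul_eq_mul, mul_one] at hα
    rcases mul_self_eq_one_iff.1 hα with rfl | rfl
    · exact Or.inl (by rw [h, one_smul])
    · exact Or.inr (by rw [h, neg_one_smul])
  refine Subgroup.mem_subgroupOf.2 (Subgroup.mem_center_iff.2 fun a => Subtype.ext (mat_ext Q ?_))
  rw [Subgroup.coe_mul, Subgroup.coe_mul, mat_mul, mat_mul]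
  rcases hM with h | h <;> rw [h] <;> simp

theorem map_center_equiv {A B : Type*} [Group A] [Group B] (e : A ≃* B) :
    (Subgroup.center A).map e.toMonoidHom = Subgroup.center B := by
  ext b
  obtain ⟨a, rfl⟩ := e.surjective b
  rw [Subgroup.mem_map_equiv, MulEquiv.symm_apply_apply, Subgroup.mem_center_iff, Subgroup.mem_center_iff]
  constructor
  · intro h y
    obtain ⟨x, rfl⟩ := e.surjective y
    rw [← map_mul, ← map_mul, h]
  · intro h x
    exact e.injective (by rw [map_mul, map_mul, h])

/-- The derived group of the quotient is `PΩ`. -/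
theorem nonempty_commutator_equiv (hQ : (QuadraticMap.polarBilin Q).Nondegenerate)
    (hn : 5 ≤ Fintype.card ι) :
    Nonempty (commutator (↥(reflectionSubgroup (⇑Q) 1) ⧸ Subgroup.center ↥(reflectionSubgroup (⇑Q) 1)) ≃*
      Cfsg.POmega (ZMod 3) ⇑Q) := by
  have hmap : (commutator ↥(reflectionSubgroup (⇑Q) 1)).map (proj Q) = commutator _ := by
    rw [commutator_def, commutator_def, Subgroup.map_commutator,
      Subgroup.map_top_of_surjective _ (QuotientGroup.mk'_surjective _)]
  let φ : ↥(commutator ↥(reflectionSubgroup (⇑Q) 1)) →*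
      ↥(commutator (↥(reflectionSubgroup (⇑Q) 1) ⧸ Subgroup.center ↥(reflectionSubgroup (⇑Q) 1))) :=
    ((proj Q).comp (Subgroup.subtype _)).codRestrict _ fun a => hmap ▸ ⟨a.1, a.2, rfl⟩
  have hφ : Function.Surjective φ := fun y => by
    have hy : y.1 ∈ (commutator ↥(reflectionSubgroup (⇑Q) 1)).map (proj Q) := hmap.symm ▸ y.2
    obtain ⟨a, ha, he⟩ := hy
    exact ⟨⟨a, ha⟩, Subtype.ext he⟩
  have hker : φ.ker = Subgroup.center ↥(commutator ↥(reflectionSubgroup (⇑Q) 1)) := by
    rw [center_commutator hQ hn]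
    ext a
    rw [MonoidHom.mem_ker, Subgroup.mem_subgroupOf, ← proj_eq_one]
    exact ⟨fun h => congrArg Subtype.val h, fun h => Subtype.ext h⟩
  let e : ↥(commutator ↥(reflectionSubgroup (⇑Q) 1)) ≃* ↥(Cfsg.Omega (ZMod 3) ⇑Q) :=
    ((commutator ↥(reflectionSubgroup (⇑Q) 1)).equivMapOfInjective _ (Subgroup.subtype_injective _)).trans
      (MulEquiv.subgroupCongr (map_commutator_eq_omega hQ hn))
  exact ⟨((QuotientGroup.quotientMulEquivOfEq hker.symm).trans
    (QuotientGroup.quotientKerEquivOfSurjective φ hφ)).symm.trans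
      (QuotientGroup.congr _ _ e (map_center_equiv e))⟩

end CfsgLib.FischerDisc.Refl

namespace CfsgLib.FischerDisc

open Cfsg Matrix Module CfsgLib.Spinor CfsgLib.FischerThm Refl

/-- The derived group of the reflection model of dimension eight. -/
theorem identRefl : IdentRefl := by
  have h2 : (2 : ZMod 3) ≠ 0 := by decide
  obtain ⟨e⟩ := nonempty_commutator_equiv (Refl.stdQ_nondegenerate 8 (one_ne_zero (α := ZMod 3))) (by simp)
  let P : QuadraticForm (ZMod 3) (Fin 4 ⊕ Fin 4 → ZMod 3) := StdForms.plusQ 4 (ZMod 3)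
  have hM : LinearMap.BilinForm.toMatrix (Pi.basisFun (ZMod 3) (Fin 4 ⊕ Fin 4)) (QuadraticMap.polarBilin P) =
      fromBlocks 0 1 1 0 := by
    ext a b
    rw [LinearMap.BilinForm.toMatrix_apply, QuadraticMap.polarBilin_apply_apply, Pi.basisFun_apply,
      Pi.basisFun_apply, StdForms.polar_plus]
    rcases a with a | a <;> rcases b with b | b <;>
      simp [fromBlocks, Matrix.one_apply, Pi.single_apply, eq_comm]
  have hdP : (LinearMap.BilinForm.toMatrix (Pi.basisFun (ZMod 3) (Fin 4 ⊕ Fin 4))
      (QuadraticMap.polarBilin P)).det = 1 := by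
    rw [hM, det_swap]
    decide
  have hdQ : (LinearMap.BilinForm.toMatrix (Pi.basisFun (ZMod 3) (Fin 8))
      (QuadraticMap.polarBilin (stdQ 8 1))).det = 1 := det_stdQ 4 (by norm_num) 1
  obtain ⟨L, hL⟩ := Forms.exists_isometry_of_isSquare h2 (QuadraticMap.polarBilin P)
    (QuadraticMap.polarBilin (stdQ 8 1)) ⟨fun x y => QuadraticMap.polar_comm _ x y⟩
    ⟨fun x y => QuadraticMap.polar_comm _ x y⟩ (Pi.basisFun (ZMod 3) (Fin 4 ⊕ Fin 4))
    (Pi.basisFun (ZMod 3) (Fin 8)) (by simp) (by rw [hdP]; exact one_ne_zero)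
    (by rw [hdQ]; exact one_ne_zero) (by rw [hdP, hdQ]; exact ⟨1, rfl⟩)
  have hLQ : ∀ v, stdQ 8 1 (L v) = ((1 : (ZMod 3)ˣ) : ZMod 3) * P v := fun v => by
    have h1 := hL v v
    rw [QuadraticMap.polarBilin_apply_apply, QuadraticMap.polarBilin_apply_apply, polar_self',
      polar_self'] at h1
    rw [Units.val_one, one_mul]
    exact mul_left_cancel₀ h2 h1
  have e2 := AutPOmega.pomCongr hLQ
  rw [show (⇑P : (Fin 4 ⊕ Fin 4 → ZMod 3) → ZMod 3) = Cfsg.quadFormPlus 4 (ZMod 3) from
    StdForms.coe_plusQ 4] at e2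
  exact ⟨e.trans e2⟩

end CfsgLib.FischerDisc
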