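import Cfsg.Agent.FischerDisc.Main
import Cfsg.Agent.FischerDisc.Easy
import Cfsg.Agent.FischerDisc.Orth
import Cfsg.Agent.FischerDisc.Refl
import Cfsg.Agent.FischerDisc.ReflIdent
import Cfsg.Agent.FischerThm.Main

/-!
# Disconnected commuting graphs, from the parts of Fischer's theorem
-/

set_option autoImplicit false

open scoped MatrixGroups

universe u

namespace CfsgLib.FischerDisc

open Cfsg CfsgLib.FischerThm

/-- **Disconnected commuting graphs**, given the parts of the induction in Fischer's theorem. -/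
theorem disconnected_of_parts (P : Parts.{u}) {G : Type u} [Group G] [Finite G] {D : Set G}
    (hD : IsThreeTranspositionClass D) (hZ : Subgroup.center G = ⊥) (h2 : pCore 2 G = ⊥)
    (h3 : pCore 3 G = ⊥) (hdisc : ¬ (Cfsg.commutingGraph D).Connected) (F : Subgroup G) [F.Normal]
    (hF : F = generalizedFittingSubgroup G) :
    Nonempty (G ⧸ F ≃* Equiv.Perm (Fin 3)) ∧
      (Nonempty (F ≃* Cfsg.Omega (ZMod 2) (Cfsg.quadFormPlus 4 (ZMod 2))) ∨
        Nonempty (F ≃* Cfsg.POmega (ZMod 3) (Cfsg.quadFormPlus 4 (ZMod 3)))) :=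
  disconnected_of (classification P) notTwinSym notTwinSp notTwinUni notTwinOPlus notTwinOMinus notTwinRefl
    notTwinM22 notTwinM23 notTwinM24 identRefl hD hZ h2 h3 hdisc F hF

end CfsgLib.FischerDisc
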