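import Cfsg.Agent.FischerDisc.Quot
import Cfsg.Agent.S0817

/-!
# Disconnected commuting graphs: assembly

The only systems with a twin are the orthogonal groups of plus type in dimension eight over the fields
with two and three elements, and there the automorphism group leaves room for exactly three components.
-/

set_option autoImplicit false
set_option linter.unusedSectionVars false
set_option linter.style.haveILetI false

open scoped MatrixGroups

universe u

namespace CfsgLib.FischerDisc

open Cfsg CfsgLib.FischerThm CfsgLib.Transpositions CfsgLib.Components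

/-- An isomorphism restricts to the derived groups. -/
noncomputable def commutatorEquiv {K H : Type*} [Group K] [Group H] (e : K ≃* H) :
    ↥(commutator K) ≃* ↥(commutator H) :=
  ((commutator K).equivMapOfInjective e.toMonoidHom e.injective).trans
    (MulEquiv.subgroupCongr (by
      rw [commutator_def, commutator_def, Subgroup.map_commutator,
        Subgroup.map_top_of_surjective _ e.surjective]))

theorem center_eq_bot {L : Type*} [Group L] [IsSimpleGroup L] (h : ¬ ∀ x y : L, Commute x y) :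
    Subgroup.center L = ⊥ := by
  refine (Subgroup.Normal.eq_bot_or_eq_top inferInstance).resolve_right fun ht => h fun x y => ?_
  exact ((Subgroup.mem_center_iff.1 (ht ▸ Subgroup.mem_top y : y ∈ Subgroup.center L)) x)

/-- **Disconnected commuting graphs**, given Fischer's theorem and the parts on the models. -/
theorem disconnected_of {G : Type u} [Group G] [Finite G] {D : Set G}
    (hC : Classification.{u}) (hSym : NotTwinSym) (hSp : NotTwinSp) (hUni : NotTwinUni)
    (hPlus : NotTwinOPlus) (hMinus : NotTwinOMinus) (hRefl : NotTwinRefl) (h22 : NotTwinM22.{u})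
    (h23 : NotTwinM23.{u}) (h24 : NotTwinM24.{u}) (hI : IdentRefl)
    (hD : IsThreeTranspositionClass D) (hZ : Subgroup.center G = ⊥) (h2 : pCore 2 G = ⊥)
    (h3 : pCore 3 G = ⊥) (hdisc : ¬ (Cfsg.commutingGraph D).Connected) (F : Subgroup G) [F.Normal]
    (hF : F = generalizedFittingSubgroup G) :
    Nonempty (G ⧸ F ≃* Equiv.Perm (Fin 3)) ∧
      (Nonempty (F ≃* Cfsg.Omega (ZMod 2) (Cfsg.quadFormPlus 4 (ZMod 2))) ∨
        Nonempty (F ≃* Cfsg.POmega (ZMod 3) (Cfsg.quadFormPlus 4 (ZMod 3)))) := by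
  obtain ⟨L, S⟩ := exists_setting hD hZ h2 h3 hdisc
  obtain rfl : F = L := hF.trans S.fitting
  haveI := S.simple
  obtain ⟨a, ha, -⟩ := id hD.2.1
  set K := ↥(Subgroup.closure (Setting.cl D F a))
  have hcls := S.isClass_part ha
  have hK := S.center_closure ha
  have hs := S.simple_commutator ha
  have ht := S.twin_part ha
  have e₀ : ↥(commutator K) ≃* ↥F :=
    ((commutator K).equivMapOfInjective _ (Subgroup.subtype_injective _)).trans
      (MulEquiv.subgroupCongr (S.commutator_eq ha))
  have hpair : ∃ d ∈ Setting.part D F a,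
      (CfsgLib.FischerTypes.perp (Setting.part D F a) d).Nonempty := by
    obtain ⟨x, hx, y, hy, hne, hc⟩ := S.pair_part ha
    exact ⟨x, hx, y, hy, fun h => hne h.symm, hc⟩
  haveI : Fact (Nat.Prime 2) := ⟨Nat.prime_two⟩
  haveI : Fact (Nat.Prime 3) := ⟨Nat.prime_three⟩
  rcases hC K (Setting.part D F a) hcls hK hs hpair with
    ⟨n, hn, h⟩ | ⟨m, hm, h⟩ | ⟨n, hn, h⟩ | ⟨m, hm, h⟩ | ⟨m, hm, h⟩ | ⟨n, s, hn, hs', h⟩ | h | h | h
  · exact (hSym n hn (ht.of_dIso h)).elim
  · exact (hSp m hm (ht.of_dIso h)).elim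
  · obtain ⟨E, iE, iEf, hE, h⟩ := h
    exact (hUni E hE n hn (ht.of_dIso h)).elim
  · by_cases h4 : m = 4
    · subst h4
      obtain ⟨e, -⟩ := h
      have e₁ : ↥F ≃* ↥(Cfsg.Omega (ZMod 2) (Cfsg.quadFormPlus 4 (ZMod 2))) :=
        e₀.symm.trans (commutatorEquiv e)
      refine ⟨S.nonempty_quot ?_, Or.inl ⟨e₁⟩⟩
      have hzO : Subgroup.center ↥(Cfsg.Omega (ZMod 2) (Cfsg.quadFormPlus 4 (ZMod 2))) = ⊥ := by
        haveI : IsSimpleGroup ↥(Cfsg.Omega (ZMod 2) (Cfsg.quadFormPlus 4 (ZMod 2))) :=
          MulEquiv.isSimpleGroup e₁.symm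
        refine center_eq_bot fun hab => S.nonabelian fun x y => ?_
        simpa using (hab (e₁ x) (e₁ y)).map e₁.symm.toMonoidHom
      have e₂ : Cfsg.POmega (ZMod 2) (Cfsg.quadFormPlus 4 (ZMod 2)) ≃* ↥F :=
        ((QuotientGroup.quotientMulEquivOfEq hzO).trans QuotientGroup.quotientBot).trans e₁.symm
      have hA := Cfsg.Agent.S0817.result (F := ZMod 2) 2 1 le_rfl (by simp [ZMod.card]) 4 le_rfl
      rw [Nat.card_congr (MulAut.congr e₂).toEquiv, Nat.card_congr e₂.toEquiv] at hA
      have hd := S.index_mul_dvd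
      rw [hA] at hd
      have hd' : F.index ∣ 6 := by
        refine Nat.dvd_of_mul_dvd_mul_right (Nat.card_pos (α := ↥F)) ?_
        simpa using hd
      exact hd'.trans (by norm_num)
    · exact (hPlus m hm h4 (ht.of_dIso h)).elim
  · exact (hMinus m hm (ht.of_dIso h)).elim
  · by_cases h8 : n = 8 ∧ s = 1
    · obtain ⟨rfl, rfl⟩ := h8
      obtain ⟨e, -⟩ := h
      obtain ⟨e'⟩ := hI
      have e₂ : Cfsg.POmega (ZMod 3) (Cfsg.quadFormPlus 4 (ZMod 3)) ≃* ↥F :=
        (e₀.symm.trans ((commutatorEquiv e).trans e')).symm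
      refine ⟨S.nonempty_quot ?_, Or.inr ⟨e₂.symm⟩⟩
      have hA := Cfsg.Agent.S0817.result (F := ZMod 3) 3 1 le_rfl (by simp [ZMod.card]) 4 le_rfl
      rw [Nat.card_congr (MulAut.congr e₂).toEquiv, Nat.card_congr e₂.toEquiv] at hA
      have hd := S.index_mul_dvd
      rw [hA] at hd
      refine Nat.dvd_of_mul_dvd_mul_right (Nat.card_pos (α := ↥F)) ?_
      simpa [show Even 4 from ⟨2, rfl⟩] using hd
    · exact (hRefl n s hn hs' h8 (ht.of_dIso h)).elim
  · exact (h22 K _ hcls hK hs h ht).elim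
  · exact (h23 K _ hcls hK hs h ht).elim
  · exact (h24 K _ hcls hK hs h ht).elim

end CfsgLib.FischerDisc
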