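import Cfsg.Agent.FischerDisc.TwinPart

/-!
# Disconnected commuting graphs: the group modulo the component
-/

set_option autoImplicit false
set_option linter.unusedSectionVars false
set_option linter.style.haveILetI false

universe u

namespace CfsgLib.FischerDisc

open Cfsg CfsgLib.Transpositions CfsgLib.Components

/-- A group of order six with two non-commuting elements is the symmetric group of degree three. -/
theorem nonempty_equiv_perm_three {Q : Type u} [Group Q] [Finite Q] (h6 : Nat.card Q = 6) {d e : Q}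
    (hd : orderOf d = 2) (hne : ¬ Commute d e) : Nonempty (Q ≃* Equiv.Perm (Fin 3)) := by
  set H := Subgroup.zpowers d with hH
  have hc : Nat.card ↥H = 2 := by rw [hH, Nat.card_zpowers, hd]
  have hidx : H.index = 3 := by
    have := H.index_mul_card
    rw [hc, h6] at this
    omega
  have hcore : H.normalCore = ⊥ := by
    rw [eq_bot_iff]
    intro x hx
    have hxH := H.normalCore_le hx
    by_contra hx1
    have hxd : x = d := by
      obtain ⟨k, hk⟩ := Subgroup.mem_zpowers_iff.1 hxH
      rcases Int.even_or_odd' k with ⟨m, rfl | rfl⟩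
      · exfalso
        apply hx1
        rw [Subgroup.mem_bot, ← hk, zpow_mul, show d ^ (2 : ℤ) = 1 by
          rw [show ((2 : ℤ)) = ((2 : ℕ) : ℤ) by rfl, zpow_natCast, ← hd, pow_orderOf_eq_one], one_zpow]
      · rw [← hk, zpow_add_one, zpow_mul, show d ^ (2 : ℤ) = 1 by
          rw [show ((2 : ℤ)) = ((2 : ℕ) : ℤ) by rfl, zpow_natCast, ← hd, pow_orderOf_eq_one],
          one_zpow, one_mul]
    subst hxd
    have he : e * x * e⁻¹ ∈ H := hx e
    obtain ⟨k, hk⟩ := Subgroup.mem_zpowers_iff.1 he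
    have hc' : Commute x (e * x * e⁻¹) := hk ▸ (Commute.refl x).zpow_right k
    have h2 : e * x * e⁻¹ = x := by
      have hmem : e * x * e⁻¹ = 1 ∨ e * x * e⁻¹ = x := by
        rcases Int.even_or_odd' k with ⟨m, rfl | rfl⟩
        · left
          rw [← hk, zpow_mul, show x ^ (2 : ℤ) = 1 by
            rw [show ((2 : ℤ)) = ((2 : ℕ) : ℤ) by rfl, zpow_natCast, ← hd, pow_orderOf_eq_one],
            one_zpow]
        · right
          rw [← hk, zpow_add_one, zpow_mul, show x ^ (2 : ℤ) = 1 by
            rw [show ((2 : ℤ)) = ((2 : ℕ) : ℤ) by rfl, zpow_natCast, ← hd, pow_orderOf_eq_one],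
            one_zpow, one_mul]
      exact hmem.resolve_left fun h => hx1 (Subgroup.mem_bot.2 (by simpa using h))
    exact hne (show x * e = e * x from by
      calc x * e = e * x * e⁻¹ * e := by rw [h2]
        _ = e * x := by group)
  have hinj : Function.Injective (MulAction.toPermHom Q (Q ⧸ H)) := by
    rw [← MonoidHom.ker_eq_bot_iff, ← H.normalCore_eq_ker, hcore]
  have hperm : Nat.card (Equiv.Perm (Q ⧸ H)) = 6 := by
    rw [Nat.card_perm, ← Subgroup.index_eq_card, hidx]; rfl
  have hbij : Function.Bijective (MulAction.toPermHom Q (Q ⧸ H)) :=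
    (Nat.bijective_iff_injective_and_card _).2 ⟨hinj, by rw [h6, hperm]⟩
  haveI : Fintype (Q ⧸ H) := Fintype.ofFinite _
  have h3 : Fintype.card (Q ⧸ H) = 3 := by rw [← Nat.card_eq_fintype_card, ← Subgroup.index_eq_card, hidx]
  exact ⟨(MulEquiv.ofBijective _ hbij).trans (Fintype.equivFinOfCardEq h3).permCongrHom⟩

namespace Setting

variable {G : Type u} [Group G] [Finite G] {D : Set G} {L : Subgroup G} (S : Setting D L)

include S

theorem index_eq (hL : L.index ∣ 24) : L.index = 6 := by
  haveI := S.normal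
  set π := QuotientGroup.mk' L
  set E := π '' D
  have heq : ∀ x ∈ D, ∀ y ∈ D, Commute (π x) (π y) → π x = π y := fun x hx y hy h =>
    QuotientGroup.eq.2 (inv_mul_mem_component S.cls S.comp hx hy (by
      rw [← QuotientGroup.eq_one_iff]
      exact (map_commutatorElement π x y).trans (commutatorElement_eq_one_iff_commute.2 h)))
  have hE : IsThreeTranspositionGroup E := by
    refine ⟨⟨?_, ?_⟩, ?_, ?_⟩
    · rintro _ ⟨x, hx, rfl⟩
      refine orderOf_eq_prime ?_ fun h => S.not_mem hx ((QuotientGroup.eq_one_iff x).1 h)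
      rw [← map_pow, pow_two, sq S.cls.1 hx, map_one]
    · rintro _ ⟨x, hx, rfl⟩ _ ⟨y, hy, rfl⟩
      rw [← map_mul, ← map_pow, ← map_pow]
      exact (S.cls.1.2 x hx y hy).imp (fun h => by rw [h, map_one]) fun h => by rw [h, map_one]
    · intro q
      obtain ⟨g, rfl⟩ := QuotientGroup.mk'_surjective L q
      rintro _ ⟨x, hx, rfl⟩
      exact ⟨g * x * g⁻¹, S.isGroup.2.1 g x hx, by simp [π]⟩
    · rw [← MonoidHom.map_closure, S.cls.2.2,
        Subgroup.map_top_of_surjective _ (QuotientGroup.mk'_surjective L)]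
  have hw : ∀ x ∈ E, ∀ y ∈ E, Commute x y → x = y := by
    rintro _ ⟨x, hx, rfl⟩ _ ⟨y, hy, rfl⟩ h
    exact heq x hx y hy h
  obtain ⟨d, hd, -⟩ := id S.cls.2.1
  have hd' : π d ∈ E := ⟨d, hd, rfl⟩
  have hsup := sup_pCore_three_eq_top hE hw hd'
  have hP := CfsgLib.PLocal.isPGroup_pCore 3 (G ⧸ L)
  haveI : Fact (Nat.Prime 3) := ⟨Nat.prime_three⟩
  haveI hn : (pCore 3 (G ⧸ L)).Normal := inferInstance
  have hdisj : Disjoint (Subgroup.zpowers (π d)) (pCore 3 (G ⧸ L)) := by
    rw [Subgroup.disjoint_def]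
    intro x hx hx3
    obtain ⟨k, rfl⟩ := Subgroup.mem_zpowers_iff.1 hx
    rcases Int.even_or_odd' k with ⟨m, rfl | rfl⟩
    · rw [zpow_mul, show (π d) ^ (2 : ℤ) = 1 by
        rw [zpow_two]; exact sq hE.1 hd', one_zpow]
    · exfalso
      rw [zpow_add_one, zpow_mul, show (π d) ^ (2 : ℤ) = 1 by
        rw [zpow_two]; exact sq hE.1 hd', one_zpow, one_mul] at hx3
      exact not_mem_of_isPGroup hE.1 hd' Nat.prime_three (by norm_num) hP hx3
  have hcomp : Subgroup.IsComplement' (Subgroup.zpowers (π d)) (pCore 3 (G ⧸ L)) :=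
    Subgroup.isComplement'_of_disjoint_and_mul_eq_univ hdisj (by
      rw [← Subgroup.mul_normal, hsup, Subgroup.coe_top])
  obtain ⟨n, hn'⟩ := IsPGroup.iff_card.1 hP
  have hcard : L.index = 2 * 3 ^ n := by
    rw [Subgroup.index_eq_card, ← hcomp.card_mul_card, hn', Nat.card_zpowers, hE.1.1 _ hd']
  have hn0 : n ≠ 0 := by
    rintro rfl
    have := S.big
    omega
  have hn1 : n ≤ 1 := by
    by_contra hcon
    have h9 : 9 ∣ L.index := hcard ▸ Dvd.dvd.mul_left (by
      rw [show (9 : ℕ) = 3 ^ 2 by rfl]; exact Nat.pow_dvd_pow 3 (by omega)) 2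
    exact absurd (h9.trans hL) (by norm_num)
  rw [hcard, show n = 1 by omega]; rfl

theorem nonempty_quot (hL : L.index ∣ 24) [L.Normal] : Nonempty (G ⧸ L ≃* Equiv.Perm (Fin 3)) := by
  obtain ⟨d, hd, -⟩ := id S.cls.2.1
  obtain ⟨e, he, hed⟩ := S.exists_other hd
  have h6 : Nat.card (G ⧸ L) = 6 := by rw [← Subgroup.index_eq_card, S.index_eq hL]
  refine nonempty_equiv_perm_three h6 (d := (d : G ⧸ L)) (e := (e : G ⧸ L)) ?_ ?_
  · exact orderOf_eq_prime (by rw [← QuotientGroup.mk_pow, pow_two, sq S.cls.1 hd]; rfl)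
      fun h => S.not_mem hd ((QuotientGroup.eq_one_iff d).1 h)
  · intro h
    exact hed ⟨he, inv_mul_mem_component S.cls S.comp hd he (by
      rw [← QuotientGroup.eq_one_iff]
      exact (map_commutatorElement (QuotientGroup.mk' L) d e).trans
        (commutatorElement_eq_one_iff_commute.2 h))⟩

/-- `G` embeds in the automorphism group of `L`. -/
theorem index_mul_dvd : L.index * Nat.card ↥L ∣ Nat.card (MulAut ↥L) := by
  haveI := S.normal
  have hinj : Function.Injective (MulAut.conjNormal (H := L)) := by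
    rw [injective_iff_map_eq_one]
    intro g hg
    have : g ∈ Subgroup.centralizer (L : Set G) := Subgroup.mem_centralizer_iff.2 fun l hl => by
      have h2 : g * l * g⁻¹ = l :=
        (MulAut.conjNormal_apply g ⟨l, hl⟩).symm.trans (by rw [hg]; rfl)
      calc l * g = g * l * g⁻¹ * g := by rw [h2]
        _ = g * l := by group
    rwa [S.cent, Subgroup.mem_bot] at this
  rw [Subgroup.index_mul_card]
  exact Subgroup.card_dvd_of_injective _ hinj

end Setting

end CfsgLib.FischerDisc
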