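import Cfsg.Agent.FischerDisc.Defs
import Cfsg.Agent.Transpositions.Simplicity
import Cfsg.Agent.Transpositions.WidthOne

/-!
# Disconnected commuting graphs: one component

With trivial centre and cores and a disconnected commuting graph, the members of `D` in one coset of the
simple component `L` generate a group with the hypotheses of Fischer's theorem and carry a twin structure.
-/

set_option autoImplicit false
set_option linter.unusedSectionVars false
set_option linter.style.haveILetI false

universe u

namespace CfsgLib.FischerDisc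

open Cfsg CfsgLib.FischerThm CfsgLib.Transpositions CfsgLib.Components

variable {G : Type u} [Group G] {D : Set G}

/-! ### Two algebraic facts -/

/-- The product of two commuting members moves a member commuting with neither to a commuting one. -/
theorem commute_shift (hD : IsThreeTranspositionSet D) {a d e : G} (ha : a ∈ D) (hd : d ∈ D)
    (he : e ∈ D) (hde : Commute d e) (had : ¬ Commute a d) (hae : ¬ Commute a e) :
    Commute a (d * e * a * (d * e)) := by
  have h1 := braid hD ha hd had
  have h2 := braid hD ha he hae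
  show a * (d * e * a * (d * e)) = d * e * a * (d * e) * a
  calc a * (d * e * a * (d * e)) = a * d * (e * a * e) * d := by
        rw [hde.eq]; simp only [mul_assoc]; rw [← mul_assoc e d, ← hde.eq, mul_assoc]
    _ = a * d * (a * e * a) * d := by rw [← h2]
    _ = (a * d * a) * (e * a * d) := by simp only [mul_assoc]
    _ = (d * a * d) * (e * a * d) := by rw [h1]
    _ = d * a * (d * e) * a * d := by simp only [mul_assoc]
    _ = d * a * e * (d * a * d) := by rw [hde.eq]; simp only [mul_assoc]
    _ = d * a * e * (a * d * a) := by rw [← h1]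
    _ = d * (a * e * a) * (d * a) := by simp only [mul_assoc]
    _ = d * (e * a * e) * (d * a) := by rw [h2]
    _ = d * e * a * (e * d) * a := by simp only [mul_assoc]
    _ = d * e * a * (d * e) * a := by rw [hde.eq]

theorem shift_ne (hD : IsThreeTranspositionSet D) {a d e : G} (ha : a ∈ D) (hd : d ∈ D)
    (he : e ∈ D) (hde : Commute d e) (hne : d ≠ e) (had : ¬ Commute a d) (hae : ¬ Commute a e) :
    d * e * a * (d * e) ≠ a := by
  intro h
  apply hne
  have hsq : (d * e) * (d * e) = 1 := by
    calc (d * e) * (d * e) = (d * e) * (e * d) := by rw [hde.eq]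
      _ = 1 := by simp only [mul_assoc, mul_cancel_left hD he, sq hD hd]
  have hat : a * (d * e) * a = d * e := by
    have h' : d * e * a = a * (d * e) := by
      calc d * e * a = d * e * a * ((d * e) * (d * e)) := by rw [hsq, mul_one]
        _ = (d * e * a * (d * e)) * (d * e) := by simp only [mul_assoc]
        _ = a * (d * e) := by rw [h]
    rw [← h', mul_cancel_right hD ha]
  have key : a * (d * e) * a * e = e := by
    have h3 : d * a * (d * e) * a * e = d * e := by
      calc d * a * (d * e) * a * e = (d * a * d) * (e * a * e) := by simp only [mul_assoc]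
        _ = (a * d * a) * (a * e * a) := by rw [braid hD ha hd had, braid hD ha he hae]
        _ = a * (d * e) * a := by simp only [mul_assoc, mul_cancel_left hD ha]
        _ = d * e := hat
    apply mul_left_cancel (a := d)
    simpa only [mul_assoc] using h3
  rw [hat, mul_cancel_right hD he] at key
  exact key

/-- Orbit counting for a conjugation action on a set. -/
theorem card_eq_ncard_mul {H : Subgroup G} {S : Set G} {a : G} (ha : a ∈ S)
    (hstab : ∀ h ∈ H, ∀ s ∈ S, h * s * h⁻¹ ∈ S) (htr : ∀ s ∈ S, ∃ h ∈ H, h * a * h⁻¹ = s) :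
    Nat.card ↥H = S.ncard * Nat.card ↥(H ⊓ Subgroup.centralizer ({a} : Set G)) := by
  letI : MulAction ↥H G := MulAction.compHom G ((MulAut.conj).comp H.subtype)
  have hsmul : ∀ (h : ↥H) (x : G), h • x = (h : G) * x * (h : G)⁻¹ := fun h x => rfl
  have horb : MulAction.orbit ↥H a = S := by
    ext s
    constructor
    · rintro ⟨h, rfl⟩
      exact hstab h h.2 a ha
    · intro hs
      obtain ⟨h, hh, rfl⟩ := htr s hs
      exact ⟨⟨h, hh⟩, rfl⟩
  have hst : Nat.card ↥(MulAction.stabilizer ↥H a) =
      Nat.card ↥(H ⊓ Subgroup.centralizer ({a} : Set G)) := by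
    refine Nat.card_congr
      ⟨fun h => ⟨h.1.1, h.1.2, Subgroup.mem_centralizer_singleton_iff.2 ?_⟩,
        fun h => ⟨⟨h.1, h.2.1⟩, ?_⟩, fun _ => rfl, fun _ => rfl⟩
    · have := h.2
      rw [MulAction.mem_stabilizer_iff, hsmul] at this
      calc (h.1 : G) * a = (h.1 : G) * a * (h.1 : G)⁻¹ * (h.1 : G) := by group
        _ = a * (h.1 : G) := by rw [this]
    · rw [MulAction.mem_stabilizer_iff, hsmul]
      show h.1 * a * h.1⁻¹ = a
      rw [Subgroup.mem_centralizer_singleton_iff.1 h.2.2, mul_inv_cancel_right]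
  have := MulAction.index_stabilizer ↥H a
  rw [horb] at this
  rw [← hst, ← this, Subgroup.index_mul_card]

/-! ### The setting -/

/-- What the hypotheses give before Fischer's theorem is used. -/
structure Setting (D : Set G) (L : Subgroup G) : Prop where
  cls : IsThreeTranspositionClass D
  center : Subgroup.center G = ⊥
  normal : L.Normal
  comp : IsComponent L
  perf : ⁅L, L⁆ = L
  cent : Subgroup.centralizer (L : Set G) = ⊥
  simple : IsSimpleGroup ↥L
  nonabelian : ¬ ∀ x y : ↥L, Commute x y
  big : 2 < L.index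
  pair : ∃ a ∈ D, ∃ b ∈ D, a ≠ b ∧ Commute a b
  fitting : generalizedFittingSubgroup G = L

theorem exists_setting [Finite G] (hD : IsThreeTranspositionClass D) (hZ : Subgroup.center G = ⊥)
    (h2 : pCore 2 G = ⊥) (h3 : pCore 3 G = ⊥) (hdisc : ¬ (Cfsg.commutingGraph D).Connected) :
    ∃ L : Subgroup G, Setting D L := by
  have hG := isThreeTranspositionGroup_of_class hD
  obtain ⟨d, hd, -⟩ := id hD.2.1
  have hne : ∃ a ∈ D, ∃ b ∈ D, a ≠ b := by
    by_contra h
    push Not at h
    have hDd : D ⊆ {d} := fun x hx => h x hx d hd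
    have hcl : (⊤ : Subgroup G) ≤ Subgroup.centralizer ({d} : Set G) := by
      rw [← hD.2.2, Subgroup.closure_le]
      intro x hx
      rw [Set.mem_singleton_iff.1 (hDd hx)]
      exact Subgroup.mem_centralizer_singleton_iff.2 rfl
    have : d ∈ Subgroup.center G := Subgroup.mem_center_iff.2 fun g =>
      Subgroup.mem_centralizer_singleton_iff.1 (hcl (Subgroup.mem_top g))
    rw [hZ, Subgroup.mem_bot] at this
    exact ne_one hD.1 hd this
  have hpair : ∃ a ∈ D, ∃ b ∈ D, a ≠ b ∧ Commute a b := by
    by_contra h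
    push Not at h
    have := sup_pCore_three_eq_top hG (fun x hx y hy hc => by_contra fun hxy => h x hx y hy hxy hc) hd
    rw [h3, sup_bot_eq] at this
    have hd' : d ∈ Subgroup.center G := Subgroup.mem_center_iff.2 fun g => by
      obtain ⟨k, rfl⟩ := Subgroup.mem_zpowers_iff.1 (this ▸ Subgroup.mem_top g)
      exact ((Commute.refl d).zpow_left k).eq
    rw [hZ, Subgroup.mem_bot] at hd'
    exact ne_one hD.1 hd hd'
  have h2' : pCore 2 G ≤ Subgroup.center G := h2 ▸ bot_le
  have h3' : pCore 3 G ≤ Subgroup.center G := h3 ▸ bot_le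
  obtain ⟨L, hL, hn, -, hF⟩ := exists_component_of_central hD hne h2' h3'
  haveI := hn
  have hC : Subgroup.centralizer (L : Set G) = ⊥ :=
    le_bot_iff.1 (hZ ▸ centralizer_component_le_center hD h2' h3' hF)
  have hzL : Subgroup.center ↥L = ⊥ := by
    rw [eq_bot_iff]
    intro z hz
    have : (z : G) ∈ Subgroup.centralizer (L : Set G) := Subgroup.mem_centralizer_iff.2 fun l hl =>
      congrArg Subtype.val (Subgroup.mem_center_iff.1 hz ⟨l, hl⟩)
    rw [hC, Subgroup.mem_bot] at this
    exact Subgroup.mem_bot.2 (Subtype.ext this)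
  haveI := hL.2.2
  haveI : Nontrivial ↥L := IsQuasisimple.nontrivial hL.2
  have hs : IsSimpleGroup ↥L := IsSimpleGroup.isSimpleGroup_of_surjective
    ((QuotientGroup.quotientMulEquivOfEq hzL).trans QuotientGroup.quotientBot).toMonoidHom
    (MulEquiv.surjective _)
  refine ⟨L, hD, hZ, hn, hL, Subgroup.isPerfect_iff.mp hL.2.1, hC, hs, ?_, ?_, hpair,
    by rw [hF, hZ, sup_bot_eq]⟩
  · intro hab
    have : Subgroup.center ↥L = ⊤ := eq_top_iff.2 fun x _ =>
      Subgroup.mem_center_iff.2 fun y => (hab y x).eq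
    rw [hzL] at this
    exact bot_ne_top this
  · by_contra hidx
    exact hdisc (connected_of_primitive hG
      (isPrimitiveUnderConj_of_index_le_two hD hne h2' h3' hL hF (by omega)) hpair)

namespace Setting

variable {L : Subgroup G} (S : Setting D L)

include S

theorem isGroup : IsThreeTranspositionGroup D := isThreeTranspositionGroup_of_class S.cls

theorem not_mem {d : G} (hd : d ∈ D) : d ∉ L := by
  intro h
  haveI := S.normal
  have hle : (⊤ : Subgroup G) ≤ L := by
    rw [← S.cls.2.2, Subgroup.closure_le]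
    intro x hx
    obtain ⟨g, rfl⟩ := exists_conj_of_class S.cls hd hx
    exact Subgroup.Normal.conj_mem inferInstance d h g
  have := S.big
  rw [top_le_iff.1 hle, Subgroup.index_top] at this
  omega

omit S in
/-- The members in the coset of `a`. -/
def cl (D : Set G) (L : Subgroup G) (a : G) : Set G := {y | y ∈ D ∧ a⁻¹ * y ∈ L}

theorem self_mem {a : G} (ha : a ∈ D) : a ∈ cl D L a := ⟨ha, by simp⟩

theorem mul_mem_of_commute [Finite G] {a b : G} (ha : a ∈ D) (hb : b ∈ D) (h : Commute a b) :
    a⁻¹ * b ∈ L :=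
  inv_mul_mem_component S.cls S.comp ha hb (by
    rw [h.eq, mul_inv_cancel_right, mul_inv_cancel]; exact one_mem L)

theorem mem_cl_symm {a y : G} (ha : a ∈ D) (hy : y ∈ cl D L a) : a ∈ cl D L y :=
  ⟨ha, by simpa using inv_mem hy.2⟩

theorem cl_eq {a y : G} (hy : y ∈ cl D L a) : cl D L y = cl D L a := by
  ext z
  refine ⟨fun hz => ⟨hz.1, by simpa [mul_assoc] using mul_mem hy.2 hz.2⟩,
    fun hz => ⟨hz.1, by simpa [mul_assoc] using mul_mem (inv_mem hy.2) hz.2⟩⟩

theorem not_commute [Finite G] {a b c : G} (hb : b ∈ cl D L a) (hc : c ∈ D) (hca : c ∉ cl D L a) :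
    ¬ Commute b c := fun h =>
  hca (S.cl_eq hb ▸ ⟨hc, S.mul_mem_of_commute hb.1 hc h⟩)

theorem conj_mem_cl {a y : G} {g : G} (hy : y ∈ cl D L a) : g * y * g⁻¹ ∈ cl D L (g * a * g⁻¹) := by
  haveI := S.normal
  refine ⟨S.isGroup.2.1 g y hy.1, ?_⟩
  have := Subgroup.Normal.conj_mem inferInstance _ hy.2 g
  simpa [mul_assoc] using this

theorem conj_mem_cl' {a y : G} {l : G} (ha : a ∈ D) (hl : l ∈ L) (hy : y ∈ cl D L a) :
    l * y * l⁻¹ ∈ cl D L a := by
  haveI := S.normal
  have h := S.conj_mem_cl (g := l) hy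
  have hla : l * a * l⁻¹ ∈ cl D L a := by
    refine ⟨S.isGroup.2.1 l a ha, ?_⟩
    have := mul_mem (Subgroup.Normal.conj_mem inferInstance l hl a⁻¹) (inv_mem hl)
    simpa [mul_assoc] using this
  rwa [S.cl_eq hla] at h

/-- A subgroup normalised by `L` containing `a` and its `L`-conjugates contains `L`. -/
theorem le_of_conj_mem {N : Subgroup G} {a : G} (ha : a ∈ D) (hN : ∀ l ∈ L, l * a * l⁻¹ ∈ N)
    (hnorm : ∀ l ∈ L, ∀ n ∈ N, l * n * l⁻¹ ∈ N) : L ≤ N := by
  haveI := S.normal
  haveI := S.simple
  have hn : (N.subgroupOf L).Normal := ⟨fun x hx g => hnorm g g.2 x hx⟩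
  rcases hn.eq_bot_or_eq_top with h | h
  · exfalso
    have hcen : a ∈ Subgroup.centralizer (L : Set G) := by
      refine Subgroup.mem_centralizer_iff.2 fun l hl => ?_
      have hm : a⁻¹ * (l * a * l⁻¹) ∈ L := by
        have := mul_mem (Subgroup.Normal.conj_mem inferInstance l hl a⁻¹) (inv_mem hl)
        simpa [mul_assoc] using this
      have hbot : (⟨_, hm⟩ : ↥L) ∈ N.subgroupOf L :=
        mul_mem (inv_mem (by simpa using hN 1 (one_mem L))) (hN l hl)
      rw [h, Subgroup.mem_bot, Subtype.ext_iff] at hbot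
      have h2 : l * a * l⁻¹ = a := (inv_mul_eq_one.1 hbot).symm
      calc l * a = l * a * l⁻¹ * l := by group
        _ = a * l := by rw [h2]
    rw [S.cent, Subgroup.mem_bot] at hcen
    exact ne_one S.cls.1 ha hcen
  · exact fun x hx => (Subgroup.subgroupOf_eq_top.1 h) hx

theorem exists_conj_mem {a y : G} (ha : a ∈ D) (hy : y ∈ cl D L a) :
    ∃ l ∈ L, l * a * l⁻¹ = y := by
  haveI := S.normal
  by_contra hcon
  push Not at hcon
  set O : Set G := {o | ∃ l ∈ L, l * a * l⁻¹ = o} with hO
  have hOcl : ∀ o ∈ O, o ∈ cl D L a := fun o ⟨l, hl, ho⟩ =>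
    ho ▸ S.conj_mem_cl' ha hl (S.self_mem ha)
  have hcomm : ∀ o ∈ O, Commute y o := by
    intro o ho
    by_contra hc
    obtain ⟨l, hl, hlo⟩ := id ho
    have hoy : o * y ∈ L := by
      have h := mul_mem (inv_mem (hOcl o ho).2) hy.2
      rw [← inv_eq S.cls.1 (hOcl o ho).1]
      simpa [mul_assoc] using h
    refine hcon (o * y * l) (mul_mem hoy hl) ?_
    have hoD := (hOcl o ho).1
    have hb := braid S.cls.1 hoD hy.1 fun h => hc h.symm
    calc o * y * l * a * (o * y * l)⁻¹ = o * y * (l * a * l⁻¹) * (y⁻¹ * o⁻¹) := by group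
      _ = o * y * o * y * o := by
        rw [hlo, inv_eq S.cls.1 hy.1, inv_eq S.cls.1 hoD]; simp only [mul_assoc]
      _ = y * o * y * y * o := by rw [hb]
      _ = y := by simp only [mul_assoc, mul_cancel_left S.cls.1 hy.1, sq S.cls.1 hoD, mul_one]
  set N := Subgroup.closure O
  have hle : L ≤ N := by
    refine S.le_of_conj_mem ha (fun l hl => Subgroup.subset_closure ⟨l, hl, rfl⟩) ?_
    intro l hl n hn
    induction hn using Subgroup.closure_induction with
    | mem x hx =>
      obtain ⟨k, hk, rfl⟩ := hx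
      exact Subgroup.subset_closure ⟨l * k, mul_mem hl hk, by group⟩
    | one => simp
    | mul p q _ _ hp hq => simpa [conj_mul] using mul_mem hp hq
    | inv p _ hp => simpa [mul_assoc] using inv_mem hp
  have hNc : N ≤ Subgroup.centralizer ({y} : Set G) := (Subgroup.closure_le _).2 fun o ho =>
    Subgroup.mem_centralizer_singleton_iff.2 (hcomm o ho).eq.symm
  have : y ∈ Subgroup.centralizer (L : Set G) := Subgroup.mem_centralizer_iff.2 fun l hl =>
    Subgroup.mem_centralizer_singleton_iff.1 (hNc (hle hl))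
  rw [S.cent, Subgroup.mem_bot] at this
  exact ne_one S.cls.1 hy.1 this

theorem le_closure_cl {a : G} (ha : a ∈ D) : L ≤ Subgroup.closure (cl D L a) := by
  refine S.le_of_conj_mem ha
    (fun l hl => Subgroup.subset_closure (S.conj_mem_cl' ha hl (S.self_mem ha))) ?_
  intro l hl n hn
  induction hn using Subgroup.closure_induction with
  | mem x hx => exact Subgroup.subset_closure (S.conj_mem_cl' ha hl hx)
  | one => simp
  | mul p q _ _ hp hq => simpa [conj_mul] using mul_mem hp hq
  | inv p _ hp => simpa [mul_assoc] using inv_mem hp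

theorem commutator_eq {a : G} (ha : a ∈ D) :
    (commutator ↥(Subgroup.closure (cl D L a))).map (Subgroup.subtype _) = L := by
  haveI := S.normal
  set K := Subgroup.closure (cl D L a)
  have hmap : (commutator ↥K).map K.subtype = ⁅K, K⁆ := by
    rw [commutator_def, Subgroup.map_commutator, ← MonoidHom.range_eq_map, Subgroup.range_subtype]
  rw [hmap]
  refine le_antisymm (Subgroup.commutator_le.2 fun x hx y hy => ?_) ?_
  · rw [← QuotientGroup.eq_one_iff]
    have hgen : ∀ k ∈ K, ∃ n : ℤ, (k : G ⧸ L) = (a : G ⧸ L) ^ n := by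
      intro k hk
      induction hk using Subgroup.closure_induction with
      | mem z hz => exact ⟨1, by rw [zpow_one]; exact (QuotientGroup.eq.2 hz.2).symm⟩
      | one => exact ⟨0, by simp⟩
      | mul p q _ _ hp hq =>
        obtain ⟨m, hm⟩ := hp; obtain ⟨n, hn⟩ := hq
        exact ⟨m + n, by rw [QuotientGroup.mk_mul, hm, hn, zpow_add]⟩
      | inv p _ hp =>
        obtain ⟨m, hm⟩ := hp
        exact ⟨-m, by rw [QuotientGroup.mk_inv, hm, zpow_neg]⟩
    obtain ⟨m, hm⟩ := hgen x hx
    obtain ⟨n, hn⟩ := hgen y hy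
    exact (map_commutatorElement (QuotientGroup.mk' L) x y).trans
      (commutatorElement_eq_one_iff_commute.2 (by
        show Commute (x : G ⧸ L) (y : G ⧸ L)
        rw [hm, hn]; exact (Commute.refl _).zpow_zpow m n))
  · conv_lhs => rw [← S.perf]
    exact Subgroup.commutator_mono (S.le_closure_cl ha) (S.le_closure_cl ha)

theorem center_closure {a : G} (ha : a ∈ D) :
    Subgroup.center ↥(Subgroup.closure (cl D L a)) = ⊥ := by
  rw [eq_bot_iff]
  intro z hz
  have : (z : G) ∈ Subgroup.centralizer (L : Set G) := Subgroup.mem_centralizer_iff.2 fun l hl =>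
    congrArg Subtype.val (Subgroup.mem_center_iff.1 hz ⟨l, S.le_closure_cl ha hl⟩)
  rw [S.cent, Subgroup.mem_bot] at this
  exact Subgroup.mem_bot.2 (Subtype.ext this)

theorem simple_commutator {a : G} (ha : a ∈ D) :
    IsSimpleGroup ↥(commutator ↥(Subgroup.closure (cl D L a))) := by
  haveI := S.simple
  exact MulEquiv.isSimpleGroup
    (((commutator ↥(Subgroup.closure (cl D L a))).equivMapOfInjective _
      (Subgroup.subtype_injective _)).trans (MulEquiv.subgroupCongr (S.commutator_eq ha)))

omit S in
/-- The members in the coset of `a`, in the group they generate. -/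
def part (D : Set G) (L : Subgroup G) (a : G) : Set ↥(Subgroup.closure (cl D L a)) :=
  {x | (x : G) ∈ cl D L a}

theorem isClass_part {a : G} (ha : a ∈ D) : IsThreeTranspositionClass (part D L a) := by
  refine ⟨⟨fun x hx => ?_, fun x hx y hy => ?_⟩,
    ⟨⟨a, Subgroup.subset_closure (S.self_mem ha)⟩, S.self_mem ha, ?_⟩,
    Subgroup.closure_closure_coe_preimage⟩
  · rw [← Subgroup.orderOf_coe]; exact S.cls.1.1 _ hx.1
  · exact (S.cls.1.2 _ hx.1 _ hy.1).imp (fun h => Subtype.ext (by simpa using h))
      (fun h => Subtype.ext (by simpa using h))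
  · ext x
    show _ ↔ IsConj _ x
    rw [isConj_iff]
    constructor
    · intro hx
      obtain ⟨l, hl, he⟩ := S.exists_conj_mem ha hx
      exact ⟨⟨l, S.le_closure_cl ha hl⟩, Subtype.ext he⟩
    · rintro ⟨g, rfl⟩
      show (g : G) * a * (g : G)⁻¹ ∈ cl D L a
      obtain ⟨k, hg⟩ := g
      show k * a * k⁻¹ ∈ cl D L a
      induction hg using Subgroup.closure_induction'' with
      | mem z hz =>
        have h := S.conj_mem_cl (g := z) (S.mem_cl_symm ha hz)
        rw [show z * z * z⁻¹ = z by group, S.cl_eq hz] at h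
        exact h
      | inv_mem z hz =>
        have h := S.conj_mem_cl (g := z⁻¹) (S.mem_cl_symm ha hz)
        rw [show z⁻¹ * z * z⁻¹⁻¹ = z by group, S.cl_eq hz] at h
        exact h
      | one => simpa using S.self_mem ha
      | mul p q _ _ hp hq =>
        have h := S.conj_mem_cl (g := p) hq
        rw [S.cl_eq hp] at h
        simpa [mul_assoc] using h

end Setting

end CfsgLib.FischerDisc
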