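import Cfsg.Agent.FischerDisc.Structure

/-!
# Disconnected commuting graphs: the twin structure of a component
-/

set_option autoImplicit false
set_option linter.unusedSectionVars false
set_option linter.style.haveILetI false

universe u

namespace CfsgLib.FischerDisc

open Cfsg CfsgLib.FischerThm CfsgLib.Transpositions CfsgLib.Components

variable {G : Type u} [Group G] [Finite G] {D : Set G} {L : Subgroup G}

namespace Setting

variable (S : Setting D L)

include S

/-- Members outside the coset of `a` exist. -/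
theorem exists_other {a : G} (ha : a ∈ D) : ∃ d ∈ D, d ∉ cl D L a := by
  haveI := S.normal
  by_contra h
  push Not at h
  have hall : ∀ g : G, (g : G ⧸ L) = 1 ∨ (g : G ⧸ L) = (a : G ⧸ L) := by
    intro g
    have hd2 : (a : G ⧸ L) * (a : G ⧸ L) = 1 := by
      rw [← QuotientGroup.mk_mul, sq S.cls.1 ha]; rfl
    induction (S.cls.2.2 ▸ Subgroup.mem_top g : g ∈ Subgroup.closure D) using
      Subgroup.closure_induction with
    | mem x hx => exact Or.inr ((QuotientGroup.eq.2 (h x hx).2).symm)
    | one => exact Or.inl rfl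
    | mul x y _ _ hx hy =>
      rcases hx with hx | hx <;> rcases hy with hy | hy <;>
        simp only [QuotientGroup.mk_mul, hx, hy, hd2, one_mul, mul_one] <;> simp
    | inv x _ hx =>
      rcases hx with hx | hx <;> simp only [QuotientGroup.mk_inv, hx]
      · exact Or.inl inv_one
      · exact Or.inr (inv_eq_of_mul_eq_one_right hd2)
  have hb := S.big
  rw [Subgroup.index_eq_card, ← Set.ncard_univ] at hb
  have hsub : (Set.univ : Set (G ⧸ L)) ⊆ {1, (a : G ⧸ L)} := fun q _ => by
    obtain ⟨g, rfl⟩ := QuotientGroup.mk_surjective q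
    exact (hall g).imp id id
  have := Set.ncard_le_ncard hsub (Set.toFinite _)
  have h2 : ({1, (a : G ⧸ L)} : Set (G ⧸ L)).ncard ≤ ({(a : G ⧸ L)} : Set (G ⧸ L)).ncard + 1 :=
    Set.ncard_insert_le _ _
  rw [Set.ncard_singleton] at h2
  omega

theorem exists_mate {d : G} (hd : d ∈ D) : ∃ e ∈ D, d ≠ e ∧ Commute d e := by
  obtain ⟨p, hp, q, hq, hne, hc⟩ := S.pair
  obtain ⟨g, rfl⟩ := exists_conj_of_class S.cls hp hd
  exact ⟨g * q * g⁻¹, S.isGroup.2.1 g q hq,
    fun h => hne (mul_left_cancel (mul_right_cancel h)), hc.map (MulAut.conj g)⟩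

/-- Two commuting members outside the coset of `d` are carried to one another by an element of `L`
centralising `d`. -/
theorem exists_carry_commute {d a b : G} (hd : d ∈ D) (ha : a ∈ D) (hb : b ∈ D)
    (had : d ∉ cl D L a) (hab : Commute a b) :
    ∃ l ∈ L, Commute l d ∧ l * a * l⁻¹ = b := by
  haveI := S.normal
  by_cases hne : a = b
  · exact ⟨1, one_mem _, Commute.one_left d, by simp [hne]⟩
  have hda : ¬ Commute d a := fun h => S.not_commute (S.self_mem ha) hd had h.symm
  have hbcl : b ∈ cl D L a := ⟨hb, S.mul_mem_of_commute ha hb hab⟩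
  have hdb : ¬ Commute d b := fun h => S.not_commute hbcl hd had h.symm
  have hc := commute_shift S.cls.1 hd ha hb hab hda hdb
  set e := a * b * d * (a * b) with he
  have hinv : (a * b)⁻¹ = a * b := by
    rw [mul_inv_rev, inv_eq S.cls.1 ha, inv_eq S.cls.1 hb, hab.eq]
  have heD : e ∈ D := by
    have := S.isGroup.2.1 (a * b) d hd
    rwa [hinv] at this
  refine ⟨d * e, ?_, (Commute.refl d).mul_left hc.symm, ?_⟩
  · have := S.mul_mem_of_commute hd heD hc
    rwa [inv_eq S.cls.1 hd] at this
  have hi : (d * e)⁻¹ = e * d := by rw [mul_inv_rev, inv_eq S.cls.1 hd, inv_eq S.cls.1 heD]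
  have hb' : a * b * a = b := by rw [hab.eq, mul_cancel_right S.cls.1 ha]
  have ha' : b * a * b = a := by rw [← hab.eq, mul_cancel_right S.cls.1 hb]
  have h1 := braid S.cls.1 hd ha hda
  have h2 := braid S.cls.1 hd hb hdb
  rw [hi, he]
  calc d * (a * b * d * (a * b)) * a * (a * b * d * (a * b) * d)
      = d * a * b * d * ((a * b * a) * a * b) * d * (a * b) * d := by simp only [mul_assoc]
    _ = d * a * b * d * a * d * (a * b) * d := by
        rw [hb']
        simp only [mul_assoc]
        rw [← mul_assoc b a, ← mul_assoc (b * a) b, ha']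
    _ = d * a * b * (d * a * d) * (a * b) * d := by simp only [mul_assoc]
    _ = d * a * b * (a * d * a) * (a * b) * d := by rw [h1]
    _ = d * (a * b * a) * (d * b) * d := by simp only [mul_assoc, mul_cancel_left S.cls.1 ha]
    _ = d * b * (d * b * d) := by rw [hb']; simp only [mul_assoc]
    _ = d * b * (b * d * b) := by rw [h2]
    _ = b := by simp only [mul_assoc, mul_cancel_left S.cls.1 hb, mul_cancel_left S.cls.1 hd]

theorem pair_part {a : G} (ha : a ∈ D) :
    ∃ x ∈ part D L a, ∃ y ∈ part D L a, x ≠ y ∧ Commute x y := by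
  obtain ⟨b, hb, hne, hc⟩ := S.exists_mate ha
  have hbc : b ∈ cl D L a := ⟨hb, S.mul_mem_of_commute ha hb hc⟩
  exact ⟨⟨a, Subgroup.subset_closure (S.self_mem ha)⟩, S.self_mem ha,
    ⟨b, Subgroup.subset_closure hbc⟩, hbc, fun h => hne (congrArg Subtype.val h), Subtype.ext hc.eq⟩

theorem connected_part {a : G} (ha : a ∈ D) : (Cfsg.commutingGraph (part D L a)).Connected := by
  have hcls := S.isClass_part ha
  exact connected_of_primitive (isThreeTranspositionGroup_of_class hcls)
    (primitive_of_isSimpleGroup_commutator hcls (S.pair_part ha) (S.center_closure ha)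
      (S.simple_commutator ha)) (S.pair_part ha)

theorem exists_carry {d a b : G} (hd : d ∈ D) (ha : a ∈ D) (had : d ∉ cl D L a)
    (hb : b ∈ cl D L a) : ∃ l ∈ L, Commute l d ∧ l * a * l⁻¹ = b := by
  haveI := S.normal
  obtain ⟨w⟩ := (S.connected_part ha).preconnected
    ⟨⟨a, Subgroup.subset_closure (S.self_mem ha)⟩, S.self_mem ha⟩
    ⟨⟨b, Subgroup.subset_closure hb⟩, hb⟩
  suffices hw : ∀ (p q : part D L a), (Cfsg.commutingGraph (part D L a)).Walk p q →
      ∃ l ∈ L, Commute l d ∧ l * (p.1 : G) * l⁻¹ = (q.1 : G) from hw _ _ w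
  intro p q w
  induction w with
  | nil => exact ⟨1, one_mem _, Commute.one_left d, by simp⟩
  | @cons u v x hadj _ ih =>
    obtain ⟨l, hl, hld, hlv⟩ := ih
    have hc : Commute (u.1 : G) (v.1 : G) := by
      simp only [Cfsg.commutingGraph, SimpleGraph.fromRel_adj] at hadj
      exact (hadj.2.elim id Commute.symm).map (Subgroup.subtype _)
    obtain ⟨m, hm, hmd, hmu⟩ := S.exists_carry_commute hd u.2.1 v.2.1
      (fun h => had (S.cl_eq (show (u.1 : G) ∈ cl D L a from u.2) ▸ h)) hc
    exact ⟨l * m, mul_mem hl hm, hld.mul_left hmd, by rw [← hlv, ← hmu]; group⟩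

/-- The order of a centraliser in `L` is that of the centraliser in the derived group of the part. -/
theorem card_derCent_part {a : G} (ha : a ∈ D) (x : ↥(Subgroup.closure (cl D L a))) :
    Nat.card ↥(derCent x) = Nat.card ↥(L ⊓ Subgroup.centralizer ({(x : G)} : Set G)) := by
  have h : (derCent x).map (Subgroup.subtype _) =
      L ⊓ Subgroup.centralizer ({(x : G)} : Set G) := by
    ext g
    constructor
    · rintro ⟨k, ⟨hk, hc⟩, rfl⟩
      exact ⟨(S.commutator_eq ha).le ⟨k, hk, rfl⟩, Subgroup.mem_centralizer_singleton_iff.2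
        (congrArg Subtype.val (Subgroup.mem_centralizer_singleton_iff.1 hc))⟩
    · rintro ⟨hg, hc⟩
      obtain ⟨k, hk, rfl⟩ := (S.commutator_eq ha).ge hg
      exact ⟨k, ⟨hk, Subgroup.mem_centralizer_singleton_iff.2
        (Subtype.ext (Subgroup.mem_centralizer_singleton_iff.1 hc))⟩, rfl⟩
  rw [← h]
  exact Nat.card_congr ((derCent x).equivMapOfInjective _ (Subgroup.subtype_injective _)).toEquiv

theorem card_commutator_part {a : G} (ha : a ∈ D) :
    Nat.card ↥(commutator ↥(Subgroup.closure (cl D L a))) = Nat.card ↥L :=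
  Nat.card_congr (((commutator ↥(Subgroup.closure (cl D L a))).equivMapOfInjective _
    (Subgroup.subtype_injective _)).trans (MulEquiv.subgroupCongr (S.commutator_eq ha))).toEquiv

theorem ncard_part {a : G} (ha : a ∈ D) : (part D L a).ncard = (cl D L a).ncard := by
  have : (Subtype.val '' part D L a) = cl D L a := Set.ext fun y =>
    ⟨fun ⟨x, hx, h⟩ => h ▸ hx, fun hy => ⟨⟨y, Subgroup.subset_closure hy⟩, hy, rfl⟩⟩
  exact (Set.ncard_image_of_injective _ Subtype.val_injective).symm.trans (congrArg Set.ncard this)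

theorem card_centralizer_conj (g x : G) :
    Nat.card ↥(L ⊓ Subgroup.centralizer ({g * x * g⁻¹} : Set G)) =
      Nat.card ↥(L ⊓ Subgroup.centralizer ({x} : Set G)) := by
  haveI := S.normal
  have h : (L ⊓ Subgroup.centralizer ({x} : Set G)).map (MulAut.conj g).toMonoidHom =
      L ⊓ Subgroup.centralizer ({g * x * g⁻¹} : Set G) := by
    ext y
    constructor
    · rintro ⟨k, ⟨hk, hc⟩, rfl⟩
      refine ⟨Subgroup.Normal.conj_mem inferInstance k hk g,
        Subgroup.mem_centralizer_singleton_iff.2 ?_⟩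
      exact (Commute.map (show Commute k x from Subgroup.mem_centralizer_singleton_iff.1 hc)
        (MulAut.conj g)).eq
    · rintro ⟨hy, hc⟩
      refine ⟨g⁻¹ * y * g, ⟨?_, Subgroup.mem_centralizer_singleton_iff.2 ?_⟩, by simp [mul_assoc]⟩
      · simpa using Subgroup.Normal.conj_mem inferInstance y hy g⁻¹
      · have h2 := (Commute.map (show Commute y (g * x * g⁻¹) from
          Subgroup.mem_centralizer_singleton_iff.1 hc) (MulAut.conj g⁻¹)).eq
        simpa [MulAut.conj_apply, mul_assoc] using h2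
  rw [← h]
  exact (Nat.card_congr ((L ⊓ Subgroup.centralizer ({x} : Set G)).equivMapOfInjective _
    (MulAut.conj g).injective).toEquiv).symm

theorem ncard_cl_conj (g a : G) : (cl D L (g * a * g⁻¹)).ncard = (cl D L a).ncard := by
  have : (fun y => g * y * g⁻¹) '' cl D L a = cl D L (g * a * g⁻¹) := by
    ext y
    refine ⟨fun ⟨x, hx, h⟩ => h ▸ S.conj_mem_cl hx, fun hy => ⟨g⁻¹ * y * g, ?_, by group⟩⟩
    have h := S.conj_mem_cl (g := g⁻¹) hy
    simpa [mul_assoc] using h
  rw [← this, Set.ncard_image_of_injective _ fun p q h =>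
    mul_left_cancel (mul_right_cancel h)]

/-- **The twin structure of a component.** -/
theorem twin_part {a : G} (ha : a ∈ D) : Twin (part D L a) := by
  haveI := S.normal
  refine ⟨fun x hx hxc => S.not_mem hx.1 ((S.commutator_eq ha).le ⟨x, hxc, rfl⟩),
    (isThreeTranspositionGroup_of_class (S.isClass_part ha)).2.1, fun x hx => ?_, fun x hx => ?_, ?_⟩
  · rw [S.card_commutator_part ha, S.ncard_part ha, S.card_derCent_part ha,
      (congrArg Set.ncard (S.cl_eq (show (x : G) ∈ cl D L a from hx))).symm]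
    exact card_eq_ncard_mul (S.self_mem hx.1) (fun h hh s hs => S.conj_mem_cl' hx.1 hh hs)
      (fun s hs => S.exists_conj_mem hx.1 hs)
  · rw [S.ncard_part ha, S.card_derCent_part ha,
      (congrArg Set.ncard (S.cl_eq (show (x : G) ∈ cl D L a from hx))).symm]
    obtain ⟨c, hc, hcx⟩ := S.exists_other hx.1
    have hcd : (x : G) ∉ cl D L c := fun h => hcx (S.mem_cl_symm hc h)
    obtain ⟨g, hg⟩ := exists_conj_of_class S.cls hc hx.1
    rw [← hg, S.ncard_cl_conj, hg]
    refine ⟨_, card_eq_ncard_mul (S.self_mem hc) (fun h hh s hs => S.conj_mem_cl' hc hh.1 hs)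
      (fun s hs => ?_)⟩
    obtain ⟨l, hl, hld, hls⟩ := S.exists_carry hx.1 hc hcd hs
    exact ⟨l, ⟨hl, Subgroup.mem_centralizer_singleton_iff.2 hld.eq⟩, hls⟩
  · obtain ⟨d, hd, hda⟩ := S.exists_other ha
    obtain ⟨e, he, hne, hde⟩ := S.exists_mate hd
    have hea : e ∉ cl D L a := fun h =>
      hda (S.cl_eq h ▸ ⟨hd, S.mul_mem_of_commute he hd hde.symm⟩)
    have hLa := S.le_closure_cl ha
    have hde' : d * e ∈ L := by
      simpa [inv_eq S.cls.1 hd] using S.mul_mem_of_commute hd he hde
    have hsq : (d * e) * (d * e) = 1 := by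
      calc (d * e) * (d * e) = (d * e) * (e * d) := by rw [hde.eq]
        _ = 1 := by simp only [mul_assoc, mul_cancel_left S.cls.1 he, sq S.cls.1 hd]
    obtain ⟨g, hg⟩ := exists_conj_of_class S.cls hd ha
    have hge : g * e * g⁻¹ ∈ cl D L a := by
      have h := S.conj_mem_cl (g := g)
        (⟨he, S.mul_mem_of_commute hd he hde⟩ : e ∈ cl D L d)
      rwa [hg] at h
    refine ⟨⟨d * e, hLa hde'⟩, ?_, ?_, Subtype.ext hsq, fun y hy => ?_,
      ⟨a, Subgroup.subset_closure (S.self_mem ha)⟩, S.self_mem ha,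
      ⟨g * e * g⁻¹, Subgroup.subset_closure hge⟩, hge, ?_, ?_, ?_⟩
    · obtain ⟨k, hk, hke⟩ := (S.commutator_eq ha).ge hde'
      rwa [show (⟨d * e, hLa hde'⟩ : ↥(Subgroup.closure (cl D L a))) = k from
        Subtype.ext hke.symm]
    · intro h
      exact hne ((mul_eq_one_iff S.cls.1 he).1 (congrArg Subtype.val h))
    · have hy' : (y : G) ∈ cl D L a := hy
      have hyd := S.not_commute hy' hd hda
      have hye := S.not_commute hy' he hea
      exact ⟨fun h => shift_ne S.cls.1 hy'.1 hd he hde hne hyd hye (congrArg Subtype.val h),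
        Subtype.ext (commute_shift S.cls.1 hy'.1 hd he hde hyd hye).eq⟩
    · intro h
      apply hne
      have h' : a = g * e * g⁻¹ := congrArg Subtype.val h
      rw [← hg] at h'
      exact mul_left_cancel (mul_right_cancel h')
    · refine Subtype.ext ?_
      have := (hde.map (MulAut.conj g)).eq
      simpa [MulAut.conj_apply, hg] using this
    · rw [S.card_derCent_part ha, S.card_derCent_part ha, ← S.card_centralizer_conj g (d * e)]
      show Nat.card ↥(L ⊓ Subgroup.centralizer {g * (d * e) * g⁻¹}) =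
        Nat.card ↥(L ⊓ Subgroup.centralizer {a * (g * e * g⁻¹)})
      rw [← hg]; congr 5; group

end Setting

end CfsgLib.FischerDisc
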